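import Cfsg.Agent.Lib.Helper15.Ree.Checks

/-!
# Root elements of `G₂` as elements of `GL`, and lifting of the kernel checks (S1116)
-/

set_option autoImplicit false

namespace Cfsg.Agent.Helper15.Ree

open Cfsg.Lie Cfsg.Agent.Helper18

variable {K : Type*} [Field K]

theorem x_add' (r : ℕ) (s s' : K) :
    chevG2.x K r s * chevG2.x K r s' = chevG2.x K r (s + s') := by
  by_cases hr : r < 12
  · exact x_add_of_check chevG2 r (addG2_0' r (Nat.zero_le _) hr) s s'
  · have hr' : ¬ r < chevG2.nroots := hr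
    simp only [ChevalleyDatum.x, dif_neg hr', mul_one]

/-- the root element `x_r(s)` in `GL` -/
noncomputable def xg (r : ℕ) (s : K) : GL chevG2.Idx K :=
  ⟨chevG2.x K r s, chevG2.x K r (-s), by rw [x_add', add_neg_cancel, x_zero],
    by rw [x_add', neg_add_cancel, x_zero]⟩

@[simp] theorem xg_val (r : ℕ) (s : K) :
    ((xg r s : GL chevG2.Idx K) : Matrix chevG2.Idx chevG2.Idx K) = chevG2.x K r s := rfl

theorem xg_add (r : ℕ) (s s' : K) : xg r s * xg r s' = xg r (s + s') :=
  Units.ext (by simp only [Units.val_mul, xg_val, x_add'])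

theorem xg_zero (r : ℕ) : xg r (0 : K) = 1 := Units.ext (by simp only [xg_val, x_zero, Units.val_one])

theorem xg_inv (r : ℕ) (s : K) : (xg r s)⁻¹ = xg r (-s) := by
  rw [inv_eq_iff_mul_eq_one, xg_add, add_neg_cancel, xg_zero]

/-- the element of `GL` of a word -/
noncomputable def wordG (w : List (ℕ × K)) : GL chevG2.Idx K := (w.map fun p => xg p.1 p.2).prod

theorem wordG_nil : wordG ([] : List (ℕ × K)) = 1 := rfl

theorem wordG_cons (p : ℕ × K) (w : List (ℕ × K)) : wordG (p :: w) = xg p.1 p.2 * wordG w := by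
  simp [wordG]

theorem wordG_append (u v : List (ℕ × K)) : wordG (u ++ v) = wordG u * wordG v := by
  simp [wordG]

theorem wordG_val (w : List (ℕ × K)) :
    ((wordG w : GL chevG2.Idx K) : Matrix chevG2.Idx chevG2.Idx K) = chevG2.wordMat K w := by
  induction w with
  | nil => simp [wordG, ChevalleyDatum.wordMat]
  | cons p w ih =>
    rw [wordG_cons, Units.val_mul, ih, xg_val]
    simp [ChevalleyDatum.wordMat]

theorem wordG_eq_of_check (a b : Kˣ) (w1 w2 : List (ℕ × LP))
    (h : wordEqCheck chevG2 w1 w2 = true) :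
    wordG (evalWord a b w1) = wordG (evalWord a b w2) :=
  Units.ext (by rw [wordG_val, wordG_val]; exact wordMat_eq_of_check chevG2 a b w1 w2 h)


/-! ### The torus elements `h_8(p)`, `h_10(q)` -/

/-- `h_{a+b}(p)` -/
noncomputable def H8 (p : Kˣ) : GL chevG2.Idx K :=
  wordG [(8, (p : K)), (3, -((p⁻¹ : Kˣ) : K)), (8, (p : K)), (8, -1), (3, 1), (8, -1)]

/-- `h_{3a+b}(q)` -/
noncomputable def H10 (q : Kˣ) : GL chevG2.Idx K :=
  wordG [(10, (q : K)), (1, -((q⁻¹ : Kˣ) : K)), (10, (q : K)), (10, -1), (1, 1), (10, -1)]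

theorem neg8 : chevG2.neg 8 = 3 := by decide
theorem neg10 : chevG2.neg 10 = 1 := by decide

theorem eval_hWa8 (a b : Kˣ) : wordG (evalWord a b (hWa 8)) = H8 a := by
  unfold H8
  congr 1
  simp [evalWord, hWa, neg8, LP.eval, LP.evalMono]

theorem eval_hWa10 (a b : Kˣ) : wordG (evalWord a b (hWa 10)) = H10 a := by
  unfold H10
  congr 1
  simp [evalWord, hWa, neg10, LP.eval, LP.evalMono]

theorem eval_hWb10 (a b : Kˣ) : wordG (evalWord a b (hWb 10)) = H10 b := by
  unfold H10
  congr 1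
  simp [evalWord, hWb, neg10, LP.eval, LP.evalMono]

theorem evalWord_append (a b : Kˣ) (u v : List (ℕ × LP)) :
    evalWord a b (u ++ v) = evalWord a b u ++ evalWord a b v := by
  simp [evalWord]

/-- generic conjugation by `h_8(p)` -/
theorem h8_conj (p : Kˣ) (r : ℕ) (hr : r < 12) (s : K) :
    H8 p * xg r s = xg r (((p ^ (e8.getD r 0) : Kˣ) : K) * s) * H8 p := by
  by_cases hs : s = 0
  · subst hs; simp [xg_zero]
  have hc := (List.all_eq_true.mp chk_h8) r (List.mem_range.mpr hr)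
  have h := wordG_eq_of_check p (Units.mk0 s hs) _ _ hc
  rw [evalWord_append, evalWord_append, wordG_append, wordG_append, eval_hWa8] at h
  have e1 : wordG (evalWord p (Units.mk0 s hs) [(r, vb)]) = xg r s := by
    simp [evalWord, vb, LP.eval, LP.evalMono, wordG]
  have e2 : wordG (evalWord p (Units.mk0 s hs) [(r, [(1, e8.getD r 0, 1)])]) =
      xg r (((p ^ (e8.getD r 0) : Kˣ) : K) * s) := by
    simp [evalWord, LP.eval, LP.evalMono, wordG]
  rw [e1, e2] at h
  exact h

/-- generic conjugation by `h_10(q)` -/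
theorem h10_conj (q : Kˣ) (r : ℕ) (hr : r < 12) (s : K) :
    H10 q * xg r s = xg r (((q ^ (e10.getD r 0) : Kˣ) : K) * s) * H10 q := by
  by_cases hs : s = 0
  · subst hs; simp [xg_zero]
  have hc := (List.all_eq_true.mp chk_h10) r (List.mem_range.mpr hr)
  have h := wordG_eq_of_check q (Units.mk0 s hs) _ _ hc
  rw [evalWord_append, evalWord_append, wordG_append, wordG_append, eval_hWa10] at h
  have e1 : wordG (evalWord q (Units.mk0 s hs) [(r, vb)]) = xg r s := by
    simp [evalWord, vb, LP.eval, LP.evalMono, wordG]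
  have e2 : wordG (evalWord q (Units.mk0 s hs) [(r, [(1, e10.getD r 0, 1)])]) =
      xg r (((q ^ (e10.getD r 0) : Kˣ) : K) * s) := by
    simp [evalWord, LP.eval, LP.evalMono, wordG]
  rw [e1, e2] at h
  exact h

/-- `h_8(p) h_10(q)` -/
noncomputable def Hh (p q : Kˣ) : GL chevG2.Idx K := H8 p * H10 q

/-- the character values of `Hh p q` on the positive roots -/
noncomputable def chi (p q : Kˣ) : ℕ → K
  | 6 => (p : K) ^ 3 * (q : K)⁻¹
  | 7 => (p : K)⁻¹ * (q : K)
  | 8 => (p : K) ^ 2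
  | 9 => (p : K) * (q : K)
  | 10 => (q : K) ^ 2
  | 11 => (p : K) ^ 3 * (q : K)
  | _ => 1

theorem Hh_mul_xg (p q : Kˣ) (r : ℕ) (h6 : 6 ≤ r) (hr : r < 12) (s : K) :
    Hh p q * xg r s = xg r (chi p q r * s) * Hh p q := by
  unfold Hh
  rw [mul_assoc, h10_conj q r hr, ← mul_assoc, h8_conj p r hr, mul_assoc]
  congr 2
  interval_cases r <;> simp [e8, e10, chi] <;> ring

theorem Hh_conj_xg (p q : Kˣ) (r : ℕ) (h6 : 6 ≤ r) (hr : r < 12) (s : K) :
    MulAut.conj (Hh p q) (xg r s) = xg r (chi p q r * s) := by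
  rw [MulAut.conj_apply, Hh_mul_xg p q r h6 hr, mul_assoc, mul_inv_cancel, mul_one]



/-! ### Commutation among the roots `8, 9, 10, 11` -/

theorem comm_pair (r s : ℕ) (hp : (r, s) ∈ [(8, 10), (8, 11), (9, 10), (9, 11), (10, 11)])
    (x y : K) : xg r x * xg s y = xg s y * xg r x := by
  by_cases hx : x = 0
  · subst hx; simp [xg_zero]
  by_cases hy : y = 0
  · subst hy; simp [xg_zero]
  have hc := (List.all_eq_true.mp chk_comm) (r, s) hp
  have h := wordG_eq_of_check (Units.mk0 x hx) (Units.mk0 y hy) _ _ hc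
  simpa [evalWord, va, vb, LP.eval, LP.evalMono, wordG] using h

theorem comm_8_10 (x y : K) : xg 8 x * xg 10 y = xg 10 y * xg 8 x := comm_pair 8 10 (by simp) x y
theorem comm_8_11 (x y : K) : xg 8 x * xg 11 y = xg 11 y * xg 8 x := comm_pair 8 11 (by simp) x y
theorem comm_9_10 (x y : K) : xg 9 x * xg 10 y = xg 10 y * xg 9 x := comm_pair 9 10 (by simp) x y
theorem comm_9_11 (x y : K) : xg 9 x * xg 11 y = xg 11 y * xg 9 x := comm_pair 9 11 (by simp) x y
theorem comm_10_11 (x y : K) : xg 10 x * xg 11 y = xg 11 y * xg 10 x := comm_pair 10 11 (by simp) x y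

theorem comm_8_9 (h3 : (3 : K) = 0) (x y : K) : xg 8 x * xg 9 y = xg 9 y * xg 8 x := by
  by_cases hx : x = 0
  · subst hx; simp [xg_zero]
  by_cases hy : y = 0
  · subst hy; simp [xg_zero]
  have h := wordG_eq_of_check (Units.mk0 x hx) (Units.mk0 y hy) _ _ chk_comm89
  have e : ((-3 : ℤ) : K) = 0 := by push_cast; rw [h3, neg_zero]
  simp only [evalWord, va, vb, LP.eval, LP.evalMono, wordG, List.map_cons, List.map_nil,
    List.sum_cons, List.sum_nil, List.prod_cons, List.prod_nil, e, zero_mul, zero_add, xg_zero,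
    mul_one] at h
  simpa using h.symm

/-! ### The rearrangement of `Hh p q` -/

theorem Hh_eq (p q : Kˣ) : Hh p q =
    xg 8 (p : K) * xg 10 (q : K) * (xg 3 (-((p⁻¹ : Kˣ) : K)) * xg 1 (-((q⁻¹ : Kˣ) : K))) *
      (xg 8 (p : K) * xg 10 (q : K)) *
      (xg 8 (-1) * xg 10 (-1)) * (xg 3 1 * xg 1 1) * (xg 8 (-1) * xg 10 (-1)) := by
  have h := wordG_eq_of_check p q _ _ chk_L1
  rw [evalWord_append, wordG_append, eval_hWa8, eval_hWb10] at h
  unfold Hh
  rw [h]
  simp [evalWord, va, vb, kc, LP.eval, LP.evalMono, wordG, mul_assoc]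

/-! ### The collection identity -/

theorem coll (c C : Kˣ) :
    xg 9 (-1) * xg 8 (-1) * xg 6 (-1) * xg 7 (-1) *
      (xg 7 (C : K) * xg 6 (c : K) * xg 8 ((c : K) * C) * xg 9 ((c : K) * (C : K) ^ 2)) =
    xg 7 ((C : K) - 1) * xg 6 ((c : K) - 1) * xg 8 ((c : K) * C - C) *
      xg 9 ((c : K) * (C : K) ^ 2 - (C : K) ^ 2) * xg 10 ((C : K) ^ 3 - 1) *
      xg 11 (-2 - (C : K) ^ 3 + c + 2 * c * (C : K) ^ 3) := by
  have h := wordG_eq_of_check c C _ _ chk_coll
  simp only [evalWord, List.map_cons, List.map_nil, wordG_cons, wordG_nil, mul_one] at h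
  simp only [LP.eval, LP.evalMono, kc, va, vb, List.map_cons, List.map_nil, List.sum_cons,
    List.sum_nil] at h
  simp only [zpow_zero, zpow_one, mul_one, one_mul, Units.val_one, Units.val_mul, add_zero,
    Int.cast_neg, Int.cast_one, Int.cast_ofNat, zpow_ofNat, neg_mul, pow_zero, pow_one,
    Units.val_pow_eq_pow_val] at h
  have e1 : (C : K) - 1 = C + -1 := by ring
  have e2 : (c : K) - 1 = c + -1 := by ring
  have e3 : (c : K) * C - C = c * C + -C := by ring
  have e4 : (c : K) * (C : K) ^ 2 - (C : K) ^ 2 = c * (C : K) ^ 2 + -(C : K) ^ 2 := by ring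
  have e5 : (C : K) ^ 3 - 1 = (C : K) ^ 3 + -1 := by ring
  have e6 : -2 - (C : K) ^ 3 + c + 2 * c * (C : K) ^ 3 =
      -2 + (-(C : K) ^ 3 + (c + 2 * (c * (C : K) ^ 3))) := by ring
  rw [e1, e2, e3, e4, e5, e6]
  simp only [mul_assoc]
  exact h

end Cfsg.Agent.Helper15.Ree
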