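import Cfsg.Agent.Lib.Helper15.Ree.UNF

/-!
# Uniqueness of the ordered product form from the two diagonal blocks (for S1101)
-/

set_option autoImplicit false
set_option linter.unusedSectionVars false
set_option maxRecDepth 100000

namespace Cfsg.Agent.Helper15.Ree

open Cfsg.Lie Cfsg.Agent.Helper18 Cfsg.Agent.Helper6 Cfsg.Agent.Helper6.BlockHom Cfsg.Agent.S1043

variable {K : Type*} [Field K]

theorem cancel_lemma {M : Type*} [Monoid M] (A A' B B' Ai Bi : M) (h : A * B = A' * B')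
    (h1 : Ai * A' = 1) (h2 : B * Bi = 1) : Ai * A = B' * Bi := by
  calc Ai * A = Ai * A * (B * Bi) := by rw [h2, mul_one]
    _ = Ai * (A * B) * Bi := by simp only [mul_assoc]
    _ = Ai * (A' * B') * Bi := by rw [h]
    _ = (Ai * A') * B' * Bi := by simp only [mul_assoc]
    _ = B' * Bi := by rw [h1, one_mul]

theorem cancel_left15 {M : Type*} [Monoid M] (A B B' Ai : M) (h : A * B = A * B')
    (h1 : Ai * A = 1) : B = B' := by
  calc B = (Ai * A) * B := by rw [h1, one_mul]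
    _ = Ai * (A * B) := by rw [mul_assoc]
    _ = Ai * (A * B') := by rw [h]
    _ = B' := by rw [← mul_assoc, h1, one_mul]

section

variable [CharP K 3]

/-- the entry `(e_k, e_{-k})` lies in one of the two diagonal blocks -/
theorem entry_of_blocks (M N : Matrix chevG2.Idx chevG2.Idx K) (h11 : B11 M = B11 N)
    (h22 : B22 M = B22 N) (k nk : ℕ) (hk : k < chevG2.nroots) (hnk : nk < chevG2.nroots)
    (hp : (k, nk) ∈ [(6, 5), (7, 4), (8, 3), (9, 2), (10, 1), (11, 0)]) :
    M (Sum.inr ⟨k, hk⟩) (Sum.inr ⟨nk, hnk⟩) = N (Sum.inr ⟨k, hk⟩) (Sum.inr ⟨nk, hnk⟩) := by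
  simp only [List.mem_cons, Prod.mk.injEq, List.not_mem_nil, or_false] at hp
  rcases hp with ⟨rfl, rfl⟩ | ⟨rfl, rfl⟩ | ⟨rfl, rfl⟩ | ⟨rfl, rfl⟩ | ⟨rfl, rfl⟩ | ⟨rfl, rfl⟩
  · exact congrFun (congrFun h22 4) 3
  · exact congrFun (congrFun h11 4) 3
  · exact congrFun (congrFun h11 5) 2
  · exact congrFun (congrFun h11 6) 1
  · exact congrFun (congrFun h22 5) 2
  · exact congrFun (congrFun h22 6) 1

theorem neg_pairs : ∀ k, 6 ≤ k → k < 12 →
    (k, chevG2.neg k) ∈ [(6, 5), (7, 4), (8, 3), (9, 2), (10, 1), (11, 0)] := by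
  intro k h1 h2
  interval_cases k <;> decide

theorem xg_eq_xU (r : ℕ) (t : K) : xg r t = xU chevG2 goodG2' r t := Units.ext rfl

theorem B11_x_inv (k : ℕ) (t : K) : B11 (chevG2.x K k (-t)) * B11 (chevG2.x K k t) = 1 := by
  rw [← B11_mul _ _ (B21_x _ _), x_add', neg_add_cancel, x_zero, B11_one]

theorem B22_x_inv (k : ℕ) (t : K) : B22 (chevG2.x K k (-t)) * B22 (chevG2.x K k t) = 1 := by
  rw [← B22_mul _ _ (B21_x _ _), x_add', neg_add_cancel, x_zero, B22_one]

theorem block_unique : ∀ m k : ℕ, 6 ≤ k → k + m = 12 → ∀ c c' : ℕ → K,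
    B11 (chevG2.wordMat K (ordWord c k m)) = B11 (chevG2.wordMat K (ordWord c' k m)) →
    B22 (chevG2.wordMat K (ordWord c k m)) = B22 (chevG2.wordMat K (ordWord c' k m)) →
    ∀ r, k ≤ r → r < 12 → c r = c' r := by
  intro m
  induction m with
  | zero =>
    intro k _ hkm c c' _ _ r hr1 hr2
    omega
  | succ m ih =>
    intro k hk1 hkm c c' h11 h22 r hr1 hr2
    have hk : k < chevG2.nroots := by change k < 12; omega
    have hk1' : chevG2.nroots / 2 ≤ k := hk1
    rw [ordWord_succ, ordWord_succ, wordMat_cons15, wordMat_cons15] at h11 h22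
    simp only at h11 h22
    set W := chevG2.wordMat K (ordWord c (k + 1) m) with hW
    set W' := chevG2.wordMat K (ordWord c' (k + 1) m) with hW'
    have hmem : ∀ t'' : ℕ → K, ∀ p ∈ ordWord t'' (k + 1) m, k + 1 ≤ p.1 ∧ p.1 < chevG2.nroots := by
      intro t'' p hp
      simp only [ordWord, List.mem_map, List.mem_range'_1] at hp
      obtain ⟨r', ⟨h1, h2⟩, rfl⟩ := hp
      refine ⟨h1, ?_⟩
      change r' < 12
      omega
    obtain ⟨V, hV, hVv⟩ := wordMat_mem_Uge chevG2 goodG2' (k + 1) (ordWord c (k + 1) m) (hmem c)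
    obtain ⟨V', hV', hVv'⟩ := wordMat_mem_Uge chevG2 goodG2' (k + 1) (ordWord c' (k + 1) m) (hmem c')
    have hVg : V = wordG (ordWord c (k + 1) m) := Units.ext (by rw [hVv, wordG_val])
    have hB21W : B21 W = 0 := B21_wordMat _
    have hB21W' : B21 W' = 0 := B21_wordMat _
    have hB21Vi : B21 ((V⁻¹ : GL chevG2.Idx K) : Matrix chevG2.Idx chevG2.Idx K) = 0 := by
      rw [hVg]; exact B21_wordG_inv _
    have hWVi : W * ((V⁻¹ : GL chevG2.Idx K) : Matrix chevG2.Idx chevG2.Idx K) = 1 := by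
      rw [hW, ← hVv, ← Units.val_mul, mul_inv_cancel, Units.val_one]
    have hY : V' * V⁻¹ ∈ Uge K chevG2 (k + 1) := mul_mem hV' (inv_mem hV)
    have hYv : ((V' * V⁻¹ : GL chevG2.Idx K) : Matrix chevG2.Idx chevG2.Idx K) =
        W' * ((V⁻¹ : GL chevG2.Idx K) : Matrix chevG2.Idx chevG2.Idx K) := by
      rw [Units.val_mul, hVv']
    -- the diagonal blocks of `x_k(c k - c' k)` and of `V' V⁻¹` agree
    have hd : chevG2.x K k (-(c' k)) * chevG2.x K k (c k) = chevG2.x K k (c k - c' k) := by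
      rw [x_add']; congr 1; ring
    have g11 : B11 (chevG2.x K k (c k - c' k)) =
        B11 ((V' * V⁻¹ : GL chevG2.Idx K) : Matrix chevG2.Idx chevG2.Idx K) := by
      rw [hYv, B11_mul _ _ hB21Vi, ← hd, B11_mul _ _ (B21_x _ _)]
      rw [B11_mul _ _ hB21W, B11_mul _ _ hB21W'] at h11
      apply cancel_lemma _ _ _ _ _ _ h11 (B11_x_inv k (c' k))
      rw [← B11_mul _ _ hB21Vi, hWVi, B11_one]
    have g22 : B22 (chevG2.x K k (c k - c' k)) =
        B22 ((V' * V⁻¹ : GL chevG2.Idx K) : Matrix chevG2.Idx chevG2.Idx K) := by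
      rw [hYv, B22_mul _ _ hB21W', ← hd, B22_mul _ _ (B21_x _ _)]
      rw [B22_mul _ _ (B21_x _ _), B22_mul _ _ (B21_x _ _)] at h22
      apply cancel_lemma _ _ _ _ _ _ h22 (B22_x_inv k (c' k))
      rw [← B22_mul _ _ hB21W, hWVi, B22_one]
    -- hence `c k = c' k`
    have h0 : c k - c' k = 0 := by
      obtain ⟨hnk, hfn⟩ := uProdData15.hneg k hk1' hk
      have hnk' : chevG2.neg k < chevG2.nroots := by
        have : chevG2.nroots / 2 ≤ chevG2.nroots := Nat.div_le_self _ _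
        omega
      have hne : chevG2.neg k ≠ k := by omega
      have hq := (Uge_qInv chevG2 goodG2' uProdData15 k hk1' hk _ hY).1
      have hentry := x_entry_neg_uprod (F := K) chevG2 k hk hnk' hne (c k - c' k)
      have hee := entry_of_blocks _ _ g11 g22 k (chevG2.neg k) hk hnk' (neg_pairs k hk1 (by omega))
      by_contra ha
      have hne0 : ((V' * V⁻¹ : GL chevG2.Idx K) : Matrix chevG2.Idx chevG2.Idx K)
          (Sum.inr ⟨k, hk⟩) (Sum.inr ⟨chevG2.neg k, hnk'⟩) ≠ 0 := by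
        rw [← hee, hentry]
        exact neg_ne_zero.mpr (pow_ne_zero 2 ha)
      have hw1 : wtIdx chevG2 fwG2 (Sum.inr ⟨k, hk⟩ : chevG2.Idx) = fwG2 k := by
        simp [wtIdx, wtCode, code]
      have hw2 : wtIdx chevG2 fwG2 (Sum.inr ⟨chevG2.neg k, hnk'⟩ : chevG2.Idx) = - fwG2 k := by
        simp [wtIdx, wtCode, code, hfn]
      rcases hq _ _ hne0 with h1 | h1 | ⟨_, s, hs1, hs2, h1⟩
      · exact hne (Fin.mk.inj_iff.mp (Sum.inr.inj h1)).symm
      · rw [hw1, hw2] at h1; omega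
      · rw [hw1, hw2] at h1
        exact uProdData15.hdbl k s hk1' hk hs1 hs2 (by omega)
    have hkk : c k = c' k := sub_eq_zero.mp h0
    by_cases hrk : r = k
    · rw [hrk]; exact hkk
    · rw [hkk] at h11 h22
      rw [B11_mul _ _ hB21W, B11_mul _ _ hB21W'] at h11
      rw [B22_mul _ _ (B21_x _ _), B22_mul _ _ (B21_x _ _)] at h22
      have h11' := cancel_left15 _ _ _ _ h11 (B11_x_inv k (c' k))
      have h22' := cancel_left15 _ _ _ _ h22 (B22_x_inv k (c' k))
      exact ih (k + 1) (by omega) (by omega) c c' h11' h22' r (by omega) hr2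

end

end Cfsg.Agent.Helper15.Ree
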