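import Cfsg.Agent.Lib.Helper6.ReeO

/-!
# `²G₂`: the rank one Bruhat decomposition in `GL` form (from `Helper6.ReeS`)
-/

set_option autoImplicit false
set_option linter.unusedSectionVars false
set_option linter.unusedVariables false
set_option maxRecDepth 100000

namespace Cfsg.Agent.Helper15.Ree

open Cfsg Cfsg.Lie Cfsg.Agent.Helper18 Cfsg.Agent.Helper6.ReeSix
open Cfsg.Agent.S1043 Cfsg.Agent.Helper6.G2C3 Cfsg.Agent.Helper6.Weyl Cfsg.Agent.Helper17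
open Cfsg.Agent.Helper59.TwFix Cfsg.Agent.Helper6.ReeS

section

variable {K : Type*} [Field K] [CharP K 3] {e : ℕ} (FD : FieldData K e)
  (α : ↥(chevG2.group K) ≃* ↥(chevG2.group K))
  (hα : ∀ (r : Fin chevG2.nroots) (t : K),
      α (xG r.val t) = xG (sig r.val) (if isShort r.val then t ^ 3 else t))

include FD hα

theorem twisted_le_group : twistedG2 K e ≤ chevG2.group K :=
  fun g hg => (twisted_fixed FD α hα g hg).1

/-- the rank one Bruhat decomposition of `²G₂` -/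
theorem ree_dec (g : GL chevG2.Idx K) (hg : g ∈ twistedG2 K e) :
    g ∈ chevG2.borelSubgroup K ∨
      ∃ b ∈ chevG2.borelSubgroup K ⊓ twistedG2 K e,
        ∃ u ∈ chevG2.posUnipotent K ⊓ twistedG2 K e, g = b * n0 * u := by
  classical
  have hG1le := twisted_le_group FD α hα
  let T := twG2 FD α hα
  have lift' : ∀ n ∈ (ambΓ (K := K)).N, n⁻¹ * T.τ n ∈ (ambΓ (K := K)).H →
      ∃ n₁ ∈ (ambΓ (K := K)).N, n₁ ∈ T.G1 ∧ n₁⁻¹ * n ∈ (ambΓ (K := K)).H := by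
    intro n hn hh
    obtain ⟨n₁, h1, h2, h3⟩ := lift_N FD α hα hn hh
    exact ⟨⟨n₁, N_le_group h1⟩, h1, h2, h3⟩
  have fixUw' : ∀ n ∈ (ambΓ (K := K)).N, n ∈ T.G1 → ∀ u ∈ (ambΓ (K := K)).Uw n,
      T.τ u = u → u ∈ T.G1 :=
    fun n _ _ u hu hfix => fixU_mem FD α hα (Uw_le_pos chevG2 _ hu) hfix
  obtain ⟨n, hn, hnG, b, hb, hbG, u, hu, he⟩ := T.nf1 lift' fixUw' ⟨g, hG1le hg⟩ hg
  have hnN : (n : GL chevG2.Idx K) ∈ chevG2.monomialSubgroup K := hn
  have hnG' : (n : GL chevG2.Idx K) ∈ twistedG2 K e := hnG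
  have hbB : (b : GL chevG2.Idx K) ∈ chevG2.borelSubgroup K := hb
  have hbG' : (b : GL chevG2.Idx K) ∈ twistedG2 K e := hbG
  have heq : g = (b : GL chevG2.Idx K) * (n : GL chevG2.Idx K) * (u : GL chevG2.Idx K) :=
    congrArg Subtype.val he
  by_cases h : (n : GL chevG2.Idx K) ∈ chevG2.diagonalSubgroup K
  · left
    have h2 : (ambΓ (K := K)).Uw n = ⊥ := (ambΓ (K := K)).Uw_of_mem_H h
    have hu1 : u = 1 := by
      have hu' : u ∈ (ambΓ (K := K)).Uw n := hu.1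
      rw [h2] at hu'
      exact Subgroup.mem_bot.mp hu'
    rw [heq, hu1, Subgroup.coe_one, mul_one]
    exact mul_mem hbB ((le_sup_right : chevG2.diagonalSubgroup K ≤ chevG2.borelSubgroup K) h)
  · right
    have hUw := Uw_of_not_mem_H FD α hα hnN hnG' h
    have huU : (u : GL chevG2.Idx K) ∈ chevG2.posUnipotent K := by
      have hu' : (u : GL chevG2.Idx K) ∈ Uw chevG2 (n : GL chevG2.Idx K) := hu.1
      rwa [hUw] at hu'
    have huG : (u : GL chevG2.Idx K) ∈ twistedG2 K e := fixU_mem FD α hα huU hu.2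
    have hn0i : (n0 : GL chevG2.Idx K)⁻¹ ∉ chevG2.diagonalSubgroup K := fun hcon =>
      n0_not_mem_H (by have := inv_mem hcon; rwa [inv_inv] at this)
    have hn0iN : (n0 : GL chevG2.Idx K)⁻¹ ∈ chevG2.monomialSubgroup K :=
      (chevG2.monomialSubgroup K).inv_mem n0_mem_N
    have hn0iG : (n0 : GL chevG2.Idx K)⁻¹ ∈ twistedG2 K e :=
      (twistedG2 K e).inv_mem (n0_mem_twisted FD)
    have h1 : (n : GL chevG2.Idx K) * (n0 : GL chevG2.Idx K)⁻¹ ∈ chevG2.diagonalSubgroup K :=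
      mul_mem_H FD α hα hnN hnG' hn0iN hn0iG h hn0i
    refine ⟨(b : GL chevG2.Idx K) * ((n : GL chevG2.Idx K) * (n0 : GL chevG2.Idx K)⁻¹),
      ⟨mul_mem hbB ((le_sup_right : chevG2.diagonalSubgroup K ≤ chevG2.borelSubgroup K) h1),
        mul_mem hbG' (mul_mem hnG' hn0iG)⟩,
      (u : GL chevG2.Idx K), ⟨huU, huG⟩, ?_⟩
    rw [heq]
    group

/-- `B¹ = U¹ H¹` -/
theorem borel1_decomp (b : GL chevG2.Idx K) (hb : b ∈ chevG2.borelSubgroup K)
    (hbG : b ∈ twistedG2 K e) :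
    ∃ u ∈ chevG2.posUnipotent K ⊓ twistedG2 K e,
      ∃ h ∈ chevG2.diagonalSubgroup K ⊓ twistedG2 K e, b = u * h := by
  have hG1le := twisted_le_group FD α hα
  let T := twG2 FD α hα
  obtain ⟨u, hu, h, hh, he⟩ := (ambΓ (K := K)).B_decomp ⟨b, hG1le hbG⟩ hb
  have hτ := T.fix ⟨b, hG1le hbG⟩ hbG
  rw [he, map_mul] at hτ
  have e2 : u⁻¹ * T.τ u = h * (T.τ h)⁻¹ := by
    have e3 : T.τ u = u * h * (T.τ h)⁻¹ := by rw [← hτ]; group
    rw [e3]; group
  have h3 : u⁻¹ * T.τ u = 1 :=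
    (ambΓ (K := K)).UH_bot _ ((ambΓ (K := K)).U.mul_mem ((ambΓ (K := K)).U.inv_mem hu) (T.τU u hu))
      (by rw [e2]; exact (ambΓ (K := K)).H.mul_mem hh ((ambΓ (K := K)).H.inv_mem (T.τH h hh)))
  have h4 : T.τ u = u := by
    have e4 : T.τ u = u * (u⁻¹ * T.τ u) := by group
    rw [e4, h3, mul_one]
  have huU : (u : GL chevG2.Idx K) ∈ chevG2.posUnipotent K := hu
  have hhH : (h : GL chevG2.Idx K) ∈ chevG2.diagonalSubgroup K := hh
  have huG : (u : GL chevG2.Idx K) ∈ twistedG2 K e := fixU_mem FD α hα huU h4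
  have hbe : b = (u : GL chevG2.Idx K) * (h : GL chevG2.Idx K) := congrArg Subtype.val he
  have hhG : (h : GL chevG2.Idx K) ∈ twistedG2 K e := by
    have e5 : (h : GL chevG2.Idx K) = (u : GL chevG2.Idx K)⁻¹ * b := by rw [hbe]; group
    rw [e5]
    exact mul_mem (inv_mem huG) hbG
  exact ⟨u, ⟨huU, huG⟩, h, ⟨hhH, hhG⟩, hbe⟩

/-- `n₀ U n₀⁻¹ ≤ V` -/
theorem n0_conj_mem_neg (u : GL chevG2.Idx K) (hu : u ∈ chevG2.posUnipotent K) :
    (n0 : GL chevG2.Idx K) * u * (n0 : GL chevG2.Idx K)⁻¹ ∈ chevG2.negUnipotent K := by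
  apply conj_Uw_mem_neg
  rw [Uw_n0 FD α hα]
  exact hu

end

section

variable {K : Type*} [Field K]

/-- `U ∩ V = 1` -/
theorem pos_neg_trivial (x : GL chevG2.Idx K) (hU : x ∈ chevG2.posUnipotent K)
    (hV : x ∈ chevG2.negUnipotent K) : x = 1 :=
  (uhv_trivial chevG2 (hypG2 (K := K)).hT (hypG2 (K := K)).hTri (hypG2 (K := K)).hNeg x 1 x hU
    (one_mem _) hV (mul_one x)).1

/-- `B ∩ V = 1` -/
theorem borel_neg_trivial (x : GL chevG2.Idx K) (hB : x ∈ chevG2.borelSubgroup K)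
    (hV : x ∈ chevG2.negUnipotent K) : x = 1 := by
  have h := (borel_inf_neg (F := K) chevG2 (hypG2 (K := K)).hT (hypG2 (K := K)).hTri
    (hypG2 (K := K)).hNeg).1
  rw [← Subgroup.mem_bot, ← h]
  exact ⟨hB, hV⟩

/-- `H` normalises `U` -/
theorem diag_conj_pos (h : GL chevG2.Idx K) (hh : h ∈ chevG2.diagonalSubgroup K)
    (u : GL chevG2.Idx K) (hu : u ∈ chevG2.posUnipotent K) :
    h * u * h⁻¹ ∈ chevG2.posUnipotent K :=
  (Subgroup.mem_normalizer_iff.mp (diag_le_normalizer chevG2 (hypG2 (K := K)).hT hh) u).mp hu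

/-- `B` normalises `U` -/
theorem borel_conj_pos (b : GL chevG2.Idx K) (hb : b ∈ chevG2.borelSubgroup K)
    (u : GL chevG2.Idx K) (hu : u ∈ chevG2.posUnipotent K) :
    b * u * b⁻¹ ∈ chevG2.posUnipotent K := by
  obtain ⟨v, hv, h, hh, rfl⟩ := (ambGL (K := K)).B_decomp b hb
  have e : v * h * u * (v * h)⁻¹ = v * (h * u * h⁻¹) * v⁻¹ := by group
  rw [e]
  exact mul_mem (mul_mem hv (diag_conj_pos h hh u hu)) (inv_mem hv)

/-- `N` normalises `H` -/
theorem mono_conj_diag (n : GL chevG2.Idx K) (hn : n ∈ chevG2.monomialSubgroup K)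
    (h : GL chevG2.Idx K) (hh : h ∈ chevG2.diagonalSubgroup K) :
    n * h * n⁻¹ ∈ chevG2.diagonalSubgroup K :=
  (ambGL (K := K)).H_normal n hn h hh

/-- `B ∩ N = H` -/
theorem borel_mono_diag (x : GL chevG2.Idx K) (hB : x ∈ chevG2.borelSubgroup K)
    (hN : x ∈ chevG2.monomialSubgroup K) : x ∈ chevG2.diagonalSubgroup K :=
  (ambGL (K := K)).BN x hB hN

end

end Cfsg.Agent.Helper15.Ree
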