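import Cfsg.Agent.Lib.Helper18.AddSmall
import Cfsg.Prelude.Def_LieTwisted

/-!
# Kernel-checked word identities in the Chevalley group of type `G₂` (for `²G₂` perfectness, S1116)

All identities are identities of words in root elements with parameters Laurent polynomials in two
unit variables `a`, `b` with integer coefficients (engine of `Helper18.ChevSparse`).
-/

set_option autoImplicit false
set_option maxRecDepth 100000

namespace Cfsg.Agent.Helper15.Ree

open Cfsg.Lie Cfsg.Agent.Helper18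

/-- the variable `a` -/
def va : LP := [(1, 1, 0)]
/-- the variable `b` -/
def vb : LP := [(1, 0, 1)]
/-- an integer constant -/
def kc (n : ℤ) : LP := [(n, 0, 0)]

/-- the word `h_r(a)` -/
def hWa (r : ℕ) : List (ℕ × LP) :=
  [(r, [(1, 1, 0)]), (chevG2.neg r, [(-1, -1, 0)]), (r, [(1, 1, 0)]),
    (r, [(-1, 0, 0)]), (chevG2.neg r, [(1, 0, 0)]), (r, [(-1, 0, 0)])]

/-- the word `h_r(b)` -/
def hWb (r : ℕ) : List (ℕ × LP) :=
  [(r, [(1, 0, 1)]), (chevG2.neg r, [(-1, 0, -1)]), (r, [(1, 0, 1)]),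
    (r, [(-1, 0, 0)]), (chevG2.neg r, [(1, 0, 0)]), (r, [(-1, 0, 0)])]

/-- exponents of `h_{a+b}` on the roots -/
def e8 : List ℤ := [-3, 0, -1, -2, 1, -3, 3, -1, 2, 1, 0, 3]
/-- exponents of `h_{3a+b}` on the roots -/
def e10 : List ℤ := [-1, -2, -1, 0, -1, 1, -1, 1, 0, 1, 2, 1]

/-- `h_8(a) x_r(b) = x_r(a^{e8 r} b) h_8(a)` for all roots `r`. -/
theorem chk_h8 : ((List.range 12).all fun r =>
    wordEqCheck chevG2 (hWa 8 ++ [(r, vb)]) ([(r, [(1, e8.getD r 0, 1)])] ++ hWa 8)) = true := by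
  decide +kernel

/-- `h_10(a) x_r(b) = x_r(a^{e10 r} b) h_10(a)` for all roots `r`. -/
theorem chk_h10 : ((List.range 12).all fun r =>
    wordEqCheck chevG2 (hWa 10 ++ [(r, vb)]) ([(r, [(1, e10.getD r 0, 1)])] ++ hWa 10)) = true := by
  decide +kernel

/-- the rearrangement of `h_8(a) h_10(b)` into σ-fixed pieces -/
theorem chk_L1 : wordEqCheck chevG2 (hWa 8 ++ hWb 10)
    [(8, va), (10, vb), (3, [(-1, -1, 0)]), (1, [(-1, 0, -1)]), (8, va), (10, vb),
      (8, kc (-1)), (10, kc (-1)), (3, kc 1), (1, kc 1), (8, kc (-1)), (10, kc (-1))] = true := by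
  decide +kernel

/-- commuting pairs among the roots `a+b, 2a+b, 3a+b, 3a+2b` -/
theorem chk_comm : ([(8, 10), (8, 11), (9, 10), (9, 11), (10, 11)].all fun p : ℕ × ℕ =>
    wordEqCheck chevG2 [(p.1, va), (p.2, vb)] [(p.2, vb), (p.1, va)]) = true := by
  decide +kernel

/-- `x_9(b) x_8(a) = x_8(a) x_9(b) x_11(-3ab)` -/
theorem chk_comm89 : wordEqCheck chevG2 [(9, vb), (8, va)]
    [(8, va), (9, vb), (11, [(-3, 1, 1)])] = true := by
  decide +kernel

/-- the collection identity (`a = c`, `b = C`) -/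
theorem chk_coll : wordEqCheck chevG2
    [(9, kc (-1)), (8, kc (-1)), (6, kc (-1)), (7, kc (-1)),
      (7, vb), (6, va), (8, [(1, 1, 1)]), (9, [(1, 1, 2)])]
    [(7, [(1, 0, 1), (-1, 0, 0)]), (6, [(1, 1, 0), (-1, 0, 0)]), (8, [(1, 1, 1), (-1, 0, 1)]),
      (9, [(1, 1, 2), (-1, 0, 2)]), (10, [(1, 0, 3), (-1, 0, 0)]),
      (11, [(-2, 0, 0), (-1, 0, 3), (1, 1, 0), (2, 1, 3)])] = true := by
  decide +kernel

/-- the word `J = n_7 n_6 n_7 n_6 n_7 n_6` -/
def jW : List (ℕ × LP) :=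
  [(7, kc 1), (4, kc (-1)), (7, kc 1), (6, kc 1), (5, kc (-1)), (6, kc 1),
    (7, kc 1), (4, kc (-1)), (7, kc 1), (6, kc 1), (5, kc (-1)), (6, kc 1),
    (7, kc 1), (4, kc (-1)), (7, kc 1), (6, kc 1), (5, kc (-1)), (6, kc 1)]

/-- `J x_r(a) = x_{-r}(-a) J` for all roots `r`. -/
theorem chk_J : ((List.range 12).all fun r =>
    wordEqCheck chevG2 (jW ++ [(r, va)]) ([(chevG2.neg r, [(-1, 1, 0)])] ++ jW)) = true := by
  decide +kernel

end Cfsg.Agent.Helper15.Ree
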