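import Cfsg.Agent.Lib.Helper15.Ree.Checks

/-!
# More kernel-checked word identities in type `G₂` (for S1101): the commutator formula for all pairs
-/

set_option autoImplicit false
set_option maxRecDepth 100000

namespace Cfsg.Agent.Helper15.Ree

open Cfsg.Lie Cfsg.Agent.Helper18

/-- the right-hand side of the commutator formula as a word with Laurent polynomial parameters
(`t = a`, `u = b`) -/
def commLP (r s : ℕ) : List (ℕ × LP) :=
  (chevG2.commTerms r s).map fun c =>
    (c.1, [(c.2.1 * (-1) ^ c.2.2.1, (c.2.2.1 : ℤ), (c.2.2.2 : ℤ))])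

/-- `x_s(b) x_r(a) = x_r(a) x_s(b) ∏ x_{ir+js}(C (-a)^i b^j)` for all pairs of independent roots -/
theorem chk_commAll : ((List.range 12).all fun r => (List.range 12).all fun s =>
    (r == s) || (s == chevG2.neg r) ||
      wordEqCheck chevG2 [(s, vb), (r, va)] ([(r, va), (s, vb)] ++ commLP r s)) = true := by
  decide +kernel

/-- `x_7(a) x_6(b) = x_6(b) x_7(a) x_8(-ab) x_9(-a²b) x_10(a³b) x_11(-2a³b²)` -/
theorem chk_I1 : wordEqCheck chevG2 [(7, va), (6, vb)]
    [(6, vb), (7, va), (8, [(-1, 1, 1)]), (9, [(-1, 2, 1)]), (10, [(1, 3, 1)]), (11, [(-2, 3, 2)])] = true := by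
  decide +kernel

end Cfsg.Agent.Helper15.Ree
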