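import Cfsg.Agent.Lib.Helper15.Ree.Checks2
import Cfsg.Agent.Lib.Helper6.G2Char3A

/-!
# Kernel-checked identities for the torus of `²G₂` (for S1114)
-/

set_option autoImplicit false
set_option maxRecDepth 100000

namespace Cfsg.Agent.Helper15.Ree

open Cfsg.Lie Cfsg.Agent.Helper18 Cfsg.Agent.Helper6

/-- the word `h_r(a^k)` -/
def hWk (r : ℕ) (k : ℤ) : List (ℕ × LP) :=
  [(r, [(1, k, 0)]), (chevG2.neg r, [(-1, -k, 0)]), (r, [(1, k, 0)]),
    (r, [(-1, 0, 0)]), (chevG2.neg r, [(1, 0, 0)]), (r, [(-1, 0, 0)])]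

/-- the word `h_r(ab)` -/
def hWab (r : ℕ) : List (ℕ × LP) :=
  [(r, [(1, 1, 1)]), (chevG2.neg r, [(-1, -1, -1)]), (r, [(1, 1, 1)]),
    (r, [(-1, 0, 0)]), (chevG2.neg r, [(1, 0, 0)]), (r, [(-1, 0, 0)])]

/-- coefficients of the coroots on the fundamental coroots -/
def corootTab : List (ℤ × ℤ) :=
  [(-1, -2), (-1, -1), (-2, -3), (-1, -3), (-1, 0), (0, -1), (0, 1), (1, 0), (1, 3), (2, 3), (1, 1), (1, 2)]

/-- `h_r(a) = h_7(a^{k₁}) h_6(a^{k₂})` -/
theorem chk_K1 : ((List.range 12).all fun r =>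
    wordEqCheck chevG2 (hWa r)
      (hWk 7 (corootTab.getD r (0, 0)).1 ++ hWk 6 (corootTab.getD r (0, 0)).2)) = true := by
  decide +kernel

theorem chk_K2a : wordEqCheck chevG2 (hWa 7 ++ hWb 7) (hWab 7) = true := by decide +kernel
theorem chk_K2b : wordEqCheck chevG2 (hWa 6 ++ hWb 6) (hWab 6) = true := by decide +kernel
theorem chk_K2c : wordEqCheck chevG2 (hWa 7 ++ hWb 6) (hWb 6 ++ hWa 7) = true := by decide +kernel

/-- an entry of the matrix of a word, as a Laurent polynomial -/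
def entryLP (w : List (ℕ × LP)) (row col : ℕ) : LP :=
  LP.norm (G2C3.svlp (applyWord chevG2 w (basisVec col)) row)

theorem chk_K3a : entryLP (hWa 7 ++ hWb 6) 8 8 = [(1, -3, 2)] := by decide +kernel
theorem chk_K3b : entryLP (hWa 7 ++ hWb 6) 9 9 = [(1, 2, -1)] := by decide +kernel

/-- equality of the matrices of two words modulo 3 -/
def wordEqCheck3 (w1 w2 : List (ℕ × LP)) : Bool :=
  (List.range 14).all fun k => (List.range 14).all fun j =>
    G2C3.div3 (G2C3.svlp (applyWord chevG2 w1 (basisVec k)) j ++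
      LP.neg (G2C3.svlp (applyWord chevG2 w2 (basisVec k)) j))

/-- the word of the involution of the torus of `²G₂` -/
def iW : List (ℕ × LP) :=
  [(7, []), (6, []), (8, []), (9, kc 1), (10, []), (11, kc 1),
   (4, []), (5, []), (3, []), (2, kc (-1)), (1, []), (0, kc (-1)),
   (7, kc 1), (6, kc 1), (8, kc 2), (9, kc 2), (10, kc 1), (11, kc 1),
   (4, kc 1), (5, kc 1), (3, kc (-2)), (2, kc 2), (1, kc (-1)), (0, kc 1)]

/-- the constant word `h_r(-1)` -/
def hWm (r : ℕ) : List (ℕ × LP) :=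
  [(r, kc (-1)), (chevG2.neg r, kc 1), (r, kc (-1)), (r, kc (-1)), (chevG2.neg r, kc 1), (r, kc (-1))]

theorem chk_K4 : wordEqCheck3 iW (hWm 7 ++ hWm 6) = true := by decide +kernel

end Cfsg.Agent.Helper15.Ree
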