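import Cfsg.Agent.Lib.Helper15.Ree.Checks3

/-!
# Kernel-checked identities: the action of `h_a(t)`, `h_b(t)` on the root elements of `G₂` (for S1151)
-/

set_option autoImplicit false
set_option maxRecDepth 100000

namespace Cfsg.Agent.Helper15.Ree

open Cfsg.Lie Cfsg.Agent.Helper18

/-- exponents of `h_a = h_7` on the roots -/
def e7t : List ℤ := [0, -3, -1, 1, -2, 3, -3, 2, -1, 1, 3, 0]
/-- exponents of `h_b = h_6` on the roots -/
def e6t : List ℤ := [-1, 1, 0, -1, 1, -2, 2, -1, 1, 0, -1, 1]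

/-- `h_7(a) x_r(b) = x_r(a^{e7t r} b) h_7(a)` for all roots `r`. -/
theorem chk_h7 : ((List.range 12).all fun r =>
    wordEqCheck chevG2 (hWa 7 ++ [(r, vb)]) ([(r, [(1, e7t.getD r 0, 1)])] ++ hWa 7)) = true := by
  decide +kernel

/-- `h_6(a) x_r(b) = x_r(a^{e6t r} b) h_6(a)` for all roots `r`. -/
theorem chk_h6 : ((List.range 12).all fun r =>
    wordEqCheck chevG2 (hWa 6 ++ [(r, vb)]) ([(r, [(1, e6t.getD r 0, 1)])] ++ hWa 6)) = true := by
  decide +kernel

end Cfsg.Agent.Helper15.Ree
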