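import Cfsg.Agent.Lib.Helper15.Ree.Checks3

/-!
# Kernel-checked identities for cubes in `U¹` of `²G₂` (for S1154)
-/

set_option autoImplicit false
set_option maxRecDepth 100000

namespace Cfsg.Agent.Helper15.Ree

open Cfsg.Lie Cfsg.Agent.Helper18

/-- `(x_6(a) x_7(b))³ = x_9(-ab²) x_11(-a²b³)` modulo 3 -/
theorem chk_X3 : wordEqCheck3 [(6, va), (7, vb), (6, va), (7, vb), (6, va), (7, vb)]
    [(9, [(-1, 1, 2)]), (11, [(-1, 2, 3)])] = true := by
  decide +kernel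

/-- `x_10(b) x_6(a) = x_6(a) x_10(b) x_11(-ab)` -/
theorem chk_10_6 : wordEqCheck chevG2 [(10, vb), (6, va)]
    [(6, va), (10, vb), (11, [(-1, 1, 1)])] = true := by
  decide +kernel

/-- `x_8(b) x_7(a) = x_7(a) x_8(b) x_9(-ab)` modulo 3 -/
theorem chk_8_7 : wordEqCheck3 [(8, vb), (7, va)] [(7, va), (8, vb), (9, [(-1, 1, 1)])] = true := by
  decide +kernel

/-- `x_9(b) x_7(a) = x_7(a) x_9(b)` modulo 3 -/
theorem chk_9_7 : wordEqCheck3 [(9, vb), (7, va)] [(7, va), (9, vb)] = true := by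
  decide +kernel

/-- more commuting pairs -/
theorem chk_comm2 : ([(6, 8), (6, 9), (6, 11), (7, 10), (7, 11)].all fun p : ℕ × ℕ =>
    wordEqCheck chevG2 [(p.1, va), (p.2, vb)] [(p.2, vb), (p.1, va)]) = true := by
  decide +kernel

end Cfsg.Agent.Helper15.Ree
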