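import Cfsg.Agent.Lib.Helper15.Ree.Checks3

/-!
# Kernel-checked identities for the Weyl element `n₁ = α(0,1,0) β(0,1,0) α(0,1,0)` of `²G₂` (for S2409)
-/

set_option autoImplicit false
set_option maxRecDepth 100000

namespace Cfsg.Agent.Helper15.Ree

open Cfsg.Lie Cfsg.Agent.Helper18

/-- the word `x_8(1) x_10(1) x_3(-1) x_1(-1) x_8(1) x_10(1)` -/
def n1W : List (ℕ × LP) :=
  [(8, kc 1), (10, kc 1), (3, kc (-1)), (1, kc (-1)), (8, kc 1), (10, kc 1)]

/-- `n₁ x_r(a) = x_{-r}(-a) n₁` for all roots `r`. -/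
theorem chk_n1 : ((List.range 12).all fun r =>
    wordEqCheck chevG2 (n1W ++ [(r, va)]) ([(chevG2.neg r, [(-1, 1, 0)])] ++ n1W)) = true := by
  decide +kernel

/-- the image of the word `h_r(a)` under `x_s(t) ↦ x_{-s}(-t)` -/
def hWneg (r : ℕ) : List (ℕ × LP) :=
  [(chevG2.neg r, [(-1, 1, 0)]), (r, [(1, -1, 0)]), (chevG2.neg r, [(-1, 1, 0)]),
    (chevG2.neg r, kc 1), (r, kc (-1)), (chevG2.neg r, kc 1)]

/-- it is `h_r(a⁻¹)` -/
theorem chk_hneg : ([6, 7].all fun r => wordEqCheck chevG2 (hWneg r) (hWk r (-1))) = true := by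
  decide +kernel

end Cfsg.Agent.Helper15.Ree
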