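import Cfsg.Agent.Lib.Helper15.Ree.TorusConj
import Cfsg.Agent.Lib.Helper15.Ree.Checks5

/-!
# Cubes in `U¹` of `²G₂` (for S1154)
-/

set_option autoImplicit false
set_option linter.unusedSectionVars false
set_option maxRecDepth 100000

namespace Cfsg.Agent.Helper15.Ree

open Cfsg.Lie Cfsg.Agent.Helper18 Cfsg.Agent.Helper6

variable {K : Type*} [Field K]

theorem wordG_eq_of_check3 [CharP K 3] (a b : Kˣ) (w1 w2 : List (ℕ × LP))
    (h : wordEqCheck3 w1 w2 = true) :
    wordG (evalWord a b w1) = wordG (evalWord a b w2) :=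
  Units.ext (by rw [wordG_val, wordG_val]; exact wordMat_eq_of_check3 a b w1 w2 h)

theorem comm_pair2 (r s : ℕ) (hp : (r, s) ∈ [(6, 8), (6, 9), (6, 11), (7, 10), (7, 11)])
    (x y : K) : xg r x * xg s y = xg s y * xg r x := by
  by_cases hx : x = 0
  · subst hx; simp [xg_zero]
  by_cases hy : y = 0
  · subst hy; simp [xg_zero]
  have hc := (List.all_eq_true.mp chk_comm2) (r, s) hp
  have h := wordG_eq_of_check (Units.mk0 x hx) (Units.mk0 y hy) _ _ hc
  simpa [evalWord, va, vb, LP.eval, LP.evalMono, wordG] using h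

theorem comm_6_8 (x y : K) : xg 6 x * xg 8 y = xg 8 y * xg 6 x := comm_pair2 6 8 (by simp) x y
theorem comm_6_9 (x y : K) : xg 6 x * xg 9 y = xg 9 y * xg 6 x := comm_pair2 6 9 (by simp) x y
theorem comm_6_11 (x y : K) : xg 6 x * xg 11 y = xg 11 y * xg 6 x := comm_pair2 6 11 (by simp) x y
theorem comm_7_10 (x y : K) : xg 7 x * xg 10 y = xg 10 y * xg 7 x := comm_pair2 7 10 (by simp) x y
theorem comm_7_11 (x y : K) : xg 7 x * xg 11 y = xg 11 y * xg 7 x := comm_pair2 7 11 (by simp) x y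

theorem c10_6 (c t : K) : xg 10 c * xg 6 t = xg 6 t * (xg 10 c * xg 11 (-(t * c))) := by
  by_cases ht : t = 0
  · subst ht; simp [xg_zero]
  by_cases hc : c = 0
  · subst hc; simp [xg_zero]
  have h := wordG_eq_of_check (Units.mk0 t ht) (Units.mk0 c hc) _ _ chk_10_6
  simpa [evalWord, va, vb, LP.eval, LP.evalMono, wordG, mul_assoc] using h

theorem c8_7 [CharP K 3] (a T : K) : xg 8 a * xg 7 T = xg 7 T * (xg 8 a * xg 9 (-(T * a))) := by
  by_cases hT : T = 0
  · subst hT; simp [xg_zero]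
  by_cases ha : a = 0
  · subst ha; simp [xg_zero]
  have h := wordG_eq_of_check3 (Units.mk0 T hT) (Units.mk0 a ha) _ _ chk_8_7
  simpa [evalWord, va, vb, LP.eval, LP.evalMono, wordG, mul_assoc] using h

theorem comm_7_9 [CharP K 3] (x y : K) : xg 7 x * xg 9 y = xg 9 y * xg 7 x := by
  by_cases hx : x = 0
  · subst hx; simp [xg_zero]
  by_cases hy : y = 0
  · subst hy; simp [xg_zero]
  have h := wordG_eq_of_check3 (Units.mk0 x hx) (Units.mk0 y hy) _ _ chk_9_7
  have h' : xg 9 y * xg 7 x = xg 7 x * xg 9 y := by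
    simpa [evalWord, va, vb, LP.eval, LP.evalMono, wordG, mul_assoc] using h
  exact h'.symm

theorem U2_mul_x6 (a b c d t : K) : U2 a b c d * xg 6 t = xg 6 t * U2 a b c (d - t * c) := by
  unfold U2
  simp only [mul_assoc]
  rw [← comm_6_11 t d, ← mul_assoc (xg 10 c), c10_6]
  simp only [mul_assoc]
  rw [lc 6 9 comm_6_9, lc 6 8 comm_6_8, xg_add, show -(t * c) + d = d - t * c by ring]

theorem U2_mul_x7 [CharP K 3] (a b c d T : K) :
    U2 a b c d * xg 7 T = xg 7 T * U2 a (b - T * a) c d := by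
  unfold U2
  simp only [mul_assoc]
  rw [← comm_7_11 T d, lc 7 10 comm_7_10, lc 7 9 comm_7_9, ← mul_assoc (xg 8 a), c8_7]
  simp only [mul_assoc]
  rw [xg_add_assoc, show -(T * a) + b = b - T * a by ring]

theorem U2_mul_X [CharP K 3] (a b c d t T : K) :
    U2 a b c d * (xg 6 t * xg 7 T) = xg 6 t * xg 7 T * U2 a (b - T * a) c (d - t * c) := by
  rw [← mul_assoc, U2_mul_x6, mul_assoc, U2_mul_x7, ← mul_assoc]

theorem cube_XU [CharP K 3] (h3 : (3 : K) = 0) (a b c d t T : K) :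
    (xg 6 t * xg 7 T * U2 a b c d) ^ 3 = (xg 6 t * xg 7 T) ^ 3 := by
  obtain ⟨X, hX⟩ : ∃ X, X = xg 6 t * xg 7 T := ⟨_, rfl⟩
  have κ : ∀ a b c d : K, U2 a b c d * X = X * U2 a (b - T * a) c (d - t * c) := by
    intro a b c d; rw [hX]; exact U2_mul_X a b c d t T
  rw [← hX]
  have e1 : (X * U2 a b c d) ^ 3 =
      X * (U2 a b c d * X) * (U2 a b c d * X) * U2 a b c d := by
    rw [pow_three']; simp only [mul_assoc]
  rw [e1, κ]
  have e2 : X * (X * U2 a (b - T * a) c (d - t * c)) * (X * U2 a (b - T * a) c (d - t * c)) *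
      U2 a b c d = X * X * (U2 a (b - T * a) c (d - t * c) * X) *
        (U2 a (b - T * a) c (d - t * c) * U2 a b c d) := by
    simp only [mul_assoc]
  rw [e2, κ, U2_mul h3]
  have e3 : X * X * (X * U2 a (b - T * a - T * a) c (d - t * c - t * c)) *
      U2 (a + a) (b - T * a + b) (c + c) (d - t * c + d) =
      X * X * X * (U2 a (b - T * a - T * a) c (d - t * c - t * c) *
        U2 (a + a) (b - T * a + b) (c + c) (d - t * c + d)) := by
    simp only [mul_assoc]
  rw [e3, U2_mul h3]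
  have z1 : a + (a + a) = 0 := by linear_combination a * h3
  have z2 : b - T * a - T * a + (b - T * a + b) = 0 := by linear_combination (b - T * a) * h3
  have z3 : c + (c + c) = 0 := by linear_combination c * h3
  have z4 : d - t * c - t * c + (d - t * c + d) = 0 := by linear_combination (d - t * c) * h3
  rw [z1, z2, z3, z4, U2_zero, mul_one, pow_three']

theorem X_cube [CharP K 3] (t T : Kˣ) :
    (xg 6 (t : K) * xg 7 (T : K)) ^ 3 =
      xg 9 (-((t : K) * (T : K) ^ 2)) * xg 11 (-((t : K) ^ 2 * (T : K) ^ 3)) := by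
  have h := wordG_eq_of_check3 t T _ _ chk_X3
  rw [pow_three]
  simpa [evalWord, va, vb, LP.eval, LP.evalMono, wordG, mul_assoc] using h

theorem x9_x11_ne_one [CharP K 3] (h3 : (3 : K) = 0) (A B : K) (hB : B ≠ 0) :
    xg 9 A * xg 11 B ≠ 1 := by
  intro h
  have h1 : Ap 0 0 0 0 B A = Ap (0 : K) 0 0 0 0 0 := by
    rw [Ap_eq_U2, Ap_eq_U2]
    simp only [xg_zero, U2, mul_zero, zero_add, one_mul, mul_one, ne_eq, OfNat.ofNat_ne_zero,
      not_false_eq_true, zero_pow]
    exact h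
  exact hB (Ap_inj h3 _ _ _ _ _ _ _ _ _ _ _ _ h1).2.2

end Cfsg.Agent.Helper15.Ree
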