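import Cfsg.Agent.Lib.Helper15.Ree.Cube

/-!
# The elements of order 3 of `U¹` in `²G₂(3^(2m+1))` (S1154)
-/

set_option autoImplicit false
set_option linter.unusedSectionVars false

namespace Cfsg.Agent.Helper15.Ree

open Cfsg.Lie

variable {K : Type*} [Field K]

section

variable [CharP K 3] {e : ℕ} (FD : FieldData K e)
include FD

theorem reeU_cube (t u v : K) :
    wordG (reeWordU e t u v) ^ 3 = (xg 6 t * xg 7 (t ^ e)) ^ 3 := by
  rw [FD.word_eq_U, FD.twist_reeWordU]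
  exact cube_XU FD.h3 _ _ _ _ _ _

theorem reeU_cube_eq_one_iff (t u v : K) :
    wordG (reeWordU e t u v) ^ 3 = 1 ↔ t = 0 := by
  rw [reeU_cube FD]
  constructor
  · intro h
    by_contra ht
    have hT : t ^ e ≠ 0 := pow_ne_zero _ ht
    have h1 := X_cube (Units.mk0 t ht) (Units.mk0 (t ^ e) hT)
    simp only [Units.val_mk0] at h1
    rw [h1] at h
    refine x9_x11_ne_one FD.h3 _ _ ?_ h
    exact neg_ne_zero.mpr (mul_ne_zero (pow_ne_zero _ ht) (pow_ne_zero _ hT))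
  · rintro rfl
    rw [zero_pow FD.epos, xg_zero, xg_zero]
    simp

theorem reeU_eq_one_iff (t u v : K) :
    wordG (reeWordU e t u v) = 1 ↔ t = 0 ∧ u = 0 ∧ v = 0 := by
  have h1 : wordG (reeWordU e (0 : K) 0 0) = 1 := by
    rw [wordG_reeWordU]
    simp [Ap, zero_pow FD.epos, xg_zero]
  constructor
  · intro h
    rw [← h1] at h
    exact wordG_reeWordU_inj FD _ _ _ _ _ _ h
  · rintro ⟨rfl, rfl, rfl⟩
    exact h1

end

theorem twistedG2_order3_count [Fintype K] {m : ℕ} (hK : Fintype.card K = 3 ^ (2 * m + 1)) :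
    Nat.card {u : ↥(chevG2.posUnipotent K ⊓ twistedG2 K (3 ^ m)) // orderOf u = 3} =
      (3 ^ (2 * m + 1)) ^ 2 - 1 := by
  classical
  haveI : Fact (Nat.Prime 3) := ⟨by norm_num⟩
  haveI : CharP K 3 := charP_of_card_eq_prime_pow hK
  have FD := fieldData_of_card hK
  have hmem : ∀ t u v : K, wordG (reeWordU (3 ^ m) t u v) ∈
      chevG2.posUnipotent K ⊓ twistedG2 K (3 ^ m) :=
    fun t u v => ⟨wordG_mem_pos _ (reeWordU_pos _ t u v), FieldData.wordU_mem t u v⟩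
  have hord : ∀ t u v : K, orderOf (wordG (reeWordU (3 ^ m) t u v)) = 3 ↔
      t = 0 ∧ ¬ (u = 0 ∧ v = 0) := by
    intro t u v
    rw [orderOf_eq_prime_iff, reeU_cube_eq_one_iff FD, Ne, reeU_eq_one_iff FD]
    constructor
    · rintro ⟨rfl, h⟩; exact ⟨rfl, fun h' => h ⟨rfl, h'⟩⟩
    · rintro ⟨rfl, h⟩; exact ⟨rfl, fun h' => h h'.2⟩
  let φ : {p : K × K // p ≠ 0} →
      {u : ↥(chevG2.posUnipotent K ⊓ twistedG2 K (3 ^ m)) // orderOf u = 3} := fun p =>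
    ⟨⟨wordG (reeWordU (3 ^ m) 0 p.1.1 p.1.2), hmem _ _ _⟩, by
      rw [Subgroup.orderOf_mk]
      exact (hord 0 p.1.1 p.1.2).mpr ⟨rfl, fun h => p.2 (Prod.ext h.1 h.2)⟩⟩
  have hφ : Function.Bijective φ := by
    constructor
    · rintro ⟨⟨u, v⟩, hp⟩ ⟨⟨u', v'⟩, hp'⟩ h
      have h' : wordG (reeWordU (3 ^ m) 0 u v) = wordG (reeWordU (3 ^ m) 0 u' v') :=
        congrArg (fun x => ((x.1 : ↥(chevG2.posUnipotent K ⊓ twistedG2 K (3 ^ m))) :
          GL chevG2.Idx K)) h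
      obtain ⟨-, rfl, rfl⟩ := wordG_reeWordU_inj FD _ _ _ _ _ _ h'
      rfl
    · rintro ⟨⟨g, hg⟩, ho⟩
      obtain ⟨t, u, v, rfl⟩ := mem_U1 FD g hg.1 hg.2
      rw [Subgroup.orderOf_mk] at ho
      obtain ⟨rfl, huv⟩ := (hord t u v).mp ho
      refine ⟨⟨(u, v), fun h => huv ⟨congrArg Prod.fst h, congrArg Prod.snd h⟩⟩, ?_⟩
      rfl
  rw [← Nat.card_congr (Equiv.ofBijective φ hφ), Nat.card_eq_fintype_card,
    Fintype.card_subtype_compl, Fintype.card_subtype_eq, Fintype.card_prod, hK]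
  ring_nf

end Cfsg.Agent.Helper15.Ree
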