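import Cfsg.Agent.Lib.Helper15.Ree.OddTorus

/-!
# The elements of odd order of the torus `H¹` of `²G₂` act without fixed points on `U¹` (S1151)
-/

set_option autoImplicit false
set_option linter.unusedSectionVars false
set_option maxRecDepth 100000

namespace Cfsg.Agent.Helper15.Ree

open Cfsg.Lie Cfsg.Agent.Helper18 Cfsg.Agent.Helper6

variable {K : Type*} [Field K]

section

variable [CharP K 3]

/-- every element of `H¹` is a `Phi μ` -/
theorem exists_Phi [Fintype K] {m : ℕ} (hK : Fintype.card K = 3 ^ (2 * m + 1))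
    (g : GL chevG2.Idx K) (hgH : g ∈ chevG2.diagonalSubgroup K) (hgG : g ∈ twistedG2 K (3 ^ m)) :
    ∃ μ : Kˣ, g = Phi (3 ^ m) μ := by
  have FD := fieldData_of_card hK
  obtain ⟨p, q, rfl⟩ := mem_diag_Tt g hgH
  have hS : SigP FD.phi (Tt p q) := twisted_le_sigInv FD hgG
  exact ⟨_, Tt_sig FD p q hS⟩

/-- the isomorphism `Kˣ ≃* H¹` -/
noncomputable def phiEquiv [Fintype K] {m : ℕ} (hK : Fintype.card K = 3 ^ (2 * m + 1)) :
    Kˣ ≃* ↥(chevG2.diagonalSubgroup K ⊓ twistedG2 K (3 ^ m)) :=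
  MulEquiv.ofBijective
    ((PhiHom (3 ^ m)).codRestrict (chevG2.diagonalSubgroup K ⊓ twistedG2 K (3 ^ m))
      (fun μ => ⟨Tt_mem_diag _ _, Phi_mem_G hK μ⟩))
    ⟨fun μ μ' h => Phi_injective (3 ^ m) (congrArg Subtype.val h), by
      rintro ⟨g, hgH, hgG⟩
      obtain ⟨μ, rfl⟩ := exists_Phi hK g hgH hgG
      exact ⟨μ, rfl⟩⟩

theorem twistedG2_odd_torus [Fintype K] {m : ℕ} (hK : Fintype.card K = 3 ^ (2 * m + 1)) :
    2 * Nat.card {h : ↥(chevG2.diagonalSubgroup K ⊓ twistedG2 K (3 ^ m)) // Odd (orderOf h)} =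
        3 ^ (2 * m + 1) - 1 ∧
      ∀ h ∈ (chevG2.diagonalSubgroup K ⊓ twistedG2 K (3 ^ m)), h ≠ 1 → Odd (orderOf h) →
        (chevG2.posUnipotent K ⊓ twistedG2 K (3 ^ m)) ⊓ Subgroup.centralizer {h} = ⊥ := by
  classical
  have FD := fieldData_of_card hK
  have h3 : (3 : K) = 0 := FD.h3
  set e := 3 ^ m with he
  have hepos : 1 ≤ e := Nat.one_le_pow _ _ (by norm_num)
  constructor
  · rw [← card_odd_units hK h3]
    congr 1
    refine Nat.card_congr (Equiv.subtypeEquiv (phiEquiv hK).toEquiv ?_).symm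
    intro x
    change Odd (orderOf x) ↔ Odd (orderOf ((phiEquiv hK) x))
    rw [MulEquiv.orderOf_eq]
  · rintro h ⟨hH, hG⟩ h1 hodd
    obtain ⟨μ, rfl⟩ := exists_Phi hK h hH hG
    rw [orderOf_Phi] at hodd
    have hμ1 : μ ≠ 1 := by
      rintro rfl
      exact h1 (Phi_one _)
    have hq : Fintype.card Kˣ = 3 * e * e - 1 := by
      rw [Fintype.card_units, hK, he]; congr 1; ring
    have hpow : μ ^ (3 * e * e - 1) = 1 := by rw [← hq]; exact pow_card_eq_one
    rw [eq_bot_iff]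
    rintro g ⟨⟨hgU, hgG⟩, hgC⟩
    rw [Subgroup.mem_bot]
    obtain ⟨t, u, v, rfl⟩ := mem_U1 FD g hgU hgG
    have hcomm : Phi e μ * wordG (reeWordU e t u v) = wordG (reeWordU e t u v) * Phi e μ :=
      Subgroup.mem_centralizer_iff.mp hgC (Phi e μ) (Set.mem_singleton _)
    have hconj : MulAut.conj (Phi e μ) (wordG (reeWordU e t u v)) = wordG (reeWordU e t u v) := by
      rw [MulAut.conj_apply, hcomm, mul_assoc, mul_inv_cancel, mul_one]
    rw [wordG_reeWordU] at hconj ⊢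
    unfold Phi at hconj
    rw [conj_Ap_T] at hconj
    obtain ⟨c6, c10, c11⟩ := chiT_Phi e μ
    obtain ⟨et, eu, ev⟩ := Ap_inj h3 _ _ _ _ _ _ _ _ _ _ _ _ hconj
    rw [c6] at et
    rw [c10] at eu
    rw [c11] at ev
    have ht : t = 0 := by
      by_contra ht
      have : (μ : K) = 1 := by
        have := mul_right_cancel₀ ht (et.trans (one_mul t).symm)
        exact this
      exact hμ1 (Units.ext this)
    have hu : u = 0 := by
      by_contra hu
      have h' : (((μ ^ e) ^ 3 * μ : Kˣ) : K) = 1 := mul_right_cancel₀ hu (eu.trans (one_mul u).symm)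
      have h'' : μ ^ (3 * e + 1) = 1 := by
        have : (μ ^ e) ^ 3 * μ = 1 := Units.ext h'
        rw [pow_succ, mul_comm 3 e, pow_mul]
        exact this
      -- `μ² = 1`
      obtain ⟨d, hd⟩ : ∃ d, d + 1 = 3 * e := ⟨3 * e - 1, by omega⟩
      obtain ⟨Q, hQ⟩ : ∃ Q, Q + 1 = 3 * e * e := ⟨3 * e * e - 1, by
        have : 1 ≤ 3 * e * e := by nlinarith
        omega⟩
      have hQ' : 3 * e * e - 1 = Q := by omega
      rw [hQ'] at hpow
      have hdd : (3 * e + 1) * d = 3 * Q + 2 := by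
        have h1 : (d + 1) * (d + 1) = 3 * (Q + 1) := by rw [hd, hQ]; ring
        have h2 : 3 * e + 1 = d + 2 := by omega
        rw [h2]
        nlinarith
      have hsq : μ ^ 2 = 1 := by
        have : μ ^ ((3 * e + 1) * d) = 1 := by rw [pow_mul, h'', one_pow]
        rw [hdd, pow_add, mul_comm 3 Q, pow_mul, hpow, one_pow, one_mul] at this
        exact this
      have hdvd : orderOf μ ∣ 2 := orderOf_dvd_of_pow_eq_one hsq
      have h2 : Nat.Coprime (orderOf μ) 2 := Nat.Coprime.symm (Nat.coprime_two_left.mpr hodd)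
      have : orderOf μ = 1 := Nat.Coprime.eq_one_of_dvd h2 hdvd
      exact hμ1 (orderOf_eq_one_iff.mp this)
    have hv : v = 0 := by
      by_contra hv
      have h' : (((μ ^ e) ^ 3 * μ ^ 2 : Kˣ) : K) = 1 := mul_right_cancel₀ hv (ev.trans (one_mul v).symm)
      have h'' : μ ^ (3 * e + 2) = 1 := by
        have : (μ ^ e) ^ 3 * μ ^ 2 = 1 := Units.ext h'
        rw [pow_add, mul_comm 3 e, pow_mul]
        exact this
      obtain ⟨d, hd⟩ : ∃ d, d + 2 = 3 * e := ⟨3 * e - 2, by omega⟩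
      obtain ⟨Q, hQ⟩ : ∃ Q, Q + 1 = 3 * e * e := ⟨3 * e * e - 1, by
        have : 1 ≤ 3 * e * e := by nlinarith
        omega⟩
      have hQ' : 3 * e * e - 1 = Q := by omega
      rw [hQ'] at hpow
      have hdd : (3 * e + 2) * d + 1 = 3 * Q := by
        have h1 : (d + 2) * (d + 2) = 3 * (Q + 1) := by rw [hd, hQ]; ring
        have h2 : 3 * e + 2 = d + 4 := by omega
        rw [h2]
        nlinarith
      have : μ ^ ((3 * e + 2) * d + 1) = μ := by rw [pow_succ, pow_mul, h'', one_pow, one_mul]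
      rw [hdd, mul_comm 3 Q, pow_mul, hpow, one_pow] at this
      exact hμ1 this.symm
    subst ht hu hv
    exact FD.al_zero_zero

end

end Cfsg.Agent.Helper15.Ree

namespace Cfsg.Agent.Helper15.Ree

open Cfsg.Lie

/-- S1151 without the characteristic instance -/
theorem twistedG2_odd_torus' {K : Type*} [Field K] [Fintype K] {m : ℕ}
    (hK : Fintype.card K = 3 ^ (2 * m + 1)) :
    2 * Nat.card {h : ↥(chevG2.diagonalSubgroup K ⊓ twistedG2 K (3 ^ m)) // Odd (orderOf h)} =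
        3 ^ (2 * m + 1) - 1 ∧
      ∀ h ∈ (chevG2.diagonalSubgroup K ⊓ twistedG2 K (3 ^ m)), h ≠ 1 → Odd (orderOf h) →
        (chevG2.posUnipotent K ⊓ twistedG2 K (3 ^ m)) ⊓ Subgroup.centralizer {h} = ⊥ := by
  haveI : Fact (Nat.Prime 3) := ⟨by norm_num⟩
  haveI : CharP K 3 := charP_of_card_eq_prime_pow hK
  exact twistedG2_odd_torus hK

end Cfsg.Agent.Helper15.Ree
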