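import Cfsg.Agent.Lib.Helper15.Ree.Cube2
import Cfsg.Agent.Lib.Helper15.Ree.OddTorus2
import Cfsg.Agent.Lib.Helper15.Ree.Checks6

/-!
# The Weyl element `n₁` of `²G₂` and its action (for S2409)
-/

set_option autoImplicit false
set_option linter.unusedSectionVars false
set_option linter.unusedVariables false
set_option maxRecDepth 100000

namespace Cfsg.Agent.Helper15.Ree

open Cfsg Cfsg.Lie Cfsg.Agent.Helper18

variable {K : Type*} [Field K]

/-- `n₁ = x_8(1) x_10(1) x_3(-1) x_1(-1) x_8(1) x_10(1)` -/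
noncomputable def n1g : GL chevG2.Idx K := wordG (evalWord (1 : Kˣ) (1 : Kˣ) n1W)

theorem n1_mul_xg (r : ℕ) (hr : r < 12) (s : K) :
    (n1g : GL chevG2.Idx K) * xg r s = xg (chevG2.neg r) (-s) * n1g := by
  by_cases hs : s = 0
  · subst hs; simp [xg_zero]
  have hc := (List.all_eq_true.mp chk_n1) r (List.mem_range.mpr hr)
  have h := wordG_eq_of_check (Units.mk0 s hs) (1 : Kˣ) _ _ hc
  rw [evalWord_append, evalWord_append, wordG_append, wordG_append] at h
  have ej : evalWord (Units.mk0 s hs) (1 : Kˣ) n1W = evalWord (1 : Kˣ) (1 : Kˣ) n1W := by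
    simp [evalWord, n1W, kc, LP.eval, LP.evalMono]
  have e1 : wordG (evalWord (Units.mk0 s hs) (1 : Kˣ) [(r, va)]) = xg r s := by
    simp [evalWord, va, LP.eval, LP.evalMono, wordG]
  have e2 : wordG (evalWord (Units.mk0 s hs) (1 : Kˣ) [(chevG2.neg r, [(-1, 1, 0)])]) =
      xg (chevG2.neg r) (-s) := by
    simp [evalWord, LP.eval, LP.evalMono, wordG]
  rw [ej, e1, e2] at h
  exact h

theorem n1_conj_xg (r : ℕ) (hr : r < 12) (s : K) :
    MulAut.conj (n1g : GL chevG2.Idx K) (xg r s) = xg (chevG2.neg r) (-s) := by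
  rw [MulAut.conj_apply, n1_mul_xg r hr, mul_assoc, mul_inv_cancel, mul_one]

theorem n1_conj_word (w : List (ℕ × K)) (hw : ∀ p ∈ w, p.1 < 12) :
    MulAut.conj (n1g : GL chevG2.Idx K) (wordG w) = wordG (chevG2.negWord w) := by
  induction w with
  | nil => simp [wordG, ChevalleyDatum.negWord]
  | cons p w ih =>
    have h1 : chevG2.negWord (p :: w) = (chevG2.neg p.1, -p.2) :: chevG2.negWord w := by
      simp [ChevalleyDatum.negWord, ChevalleyDatum.neg]
    rw [h1, wordG_cons, wordG_cons, map_mul, n1_conj_xg p.1 (hw p List.mem_cons_self),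
      ih fun q hq => hw q (List.mem_cons_of_mem _ hq)]

theorem hF_lt (r : ℕ) (hr : r < 12) (p : Kˣ) : ∀ x ∈ hF r p, x.1 < 12 := by
  intro x hx
  have hn : chevG2.neg r < 12 := neg_lt12 r hr
  simp only [hF, List.mem_cons, List.not_mem_nil, or_false] at hx
  rcases hx with rfl | rfl | rfl | rfl | rfl | rfl <;> assumption

theorem n1_conj_hF (r : ℕ) (hr : r = 6 ∨ r = 7) (p : Kˣ) :
    MulAut.conj (n1g : GL chevG2.Idx K) (wordG (hF r p)) = wordG (hF r p⁻¹) := by
  have hr12 : r < 12 := by rcases hr with rfl | rfl <;> norm_num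
  rw [n1_conj_word _ (hF_lt r hr12 p)]
  have hc : wordEqCheck chevG2 (hWneg r) (hWk r (-1)) = true := by
    have := List.all_eq_true.mp chk_hneg r (by rcases hr with rfl | rfl <;> simp)
    exact this
  have h := wordG_eq_of_check p (1 : Kˣ) _ _ hc
  rw [eval_hWk] at h
  have e1 : evalWord p (1 : Kˣ) (hWneg r) = chevG2.negWord (hF r p) := by
    have hnn : chevG2.neg (chevG2.neg r) = r := neg_neg12 r hr12
    simp only [evalWord, hWneg, hF, ChevalleyDatum.negWord, kc, LP.eval, LP.evalMono, List.map_cons,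
      List.map_nil, List.sum_cons, List.sum_nil]
    have hd : ∀ s, chevG2.negIdx.getD s 0 = chevG2.neg s := fun s => rfl
    simp only [hd, hnn]
    simp
  rw [e1] at h
  rw [h]
  congr 2
  simp

theorem n1_conj_Tt (p q : Kˣ) :
    MulAut.conj (n1g : GL chevG2.Idx K) (Tt p q) = Tt p⁻¹ q⁻¹ := by
  unfold Tt Ha Hb
  rw [map_mul, n1_conj_hF 7 (Or.inr rfl), n1_conj_hF 6 (Or.inl rfl)]

section

variable [CharP K 3] {e : ℕ} (FD : FieldData K e)
include FD

theorem n1_eq : (n1g : GL chevG2.Idx K) =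
    wordG (reeWordU e (0 : K) 1 0) * wordG (reeWordV e (0 : K) 1 0) * wordG (reeWordU e (0 : K) 1 0) := by
  rw [wordG_reeWordU, ← al, FD.al_zero_u, FD.wordV_zero, one_pow]
  simp [n1g, n1W, evalWord, kc, LP.eval, LP.evalMono, wordG, mul_assoc]

theorem n1_mem : (n1g : GL chevG2.Idx K) ∈ twistedG2 K e := by
  rw [n1_eq FD]
  exact mul_mem (mul_mem (FieldData.wordU_mem _ _ _) (FieldData.wordV_mem _ _ _))
    (FieldData.wordU_mem _ _ _)

/-- the negative Ree elements are the `n₁`-conjugates of the positive ones -/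
theorem wordV_eq_conj (t u v : K) :
    wordG (reeWordV e t u v) =
      (n1g : GL chevG2.Idx K) * wordG (reeWordU e t u v) * (n1g : GL chevG2.Idx K)⁻¹ := by
  rw [← MulAut.conj_apply, n1_conj_word _ (reeWordU_lt e t u v)]
  rfl

end

end Cfsg.Agent.Helper15.Ree
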