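import Cfsg.Agent.Lib.Helper15.Ree.Gen2a

/-!
# Generation of `U¹` of `²G₂` by elements with arbitrary first coordinate (for S2409)
-/

set_option autoImplicit false
set_option linter.unusedSectionVars false
set_option linter.unusedVariables false
set_option maxRecDepth 100000

namespace Cfsg.Agent.Helper15.Ree

open Cfsg Cfsg.Lie Cfsg.Agent.Helper18

variable {K : Type*} [Field K]

/-- a coefficient function with prescribed values at `6, …, 11` -/
def mk6 (x6 x7 x8 x9 x10 x11 : K) : ℕ → K := fun r =>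
  if r = 6 then x6 else if r = 7 then x7 else if r = 8 then x8 else if r = 9 then x9
  else if r = 10 then x10 else if r = 11 then x11 else 0

theorem wordG_mk6 (x6 x7 x8 x9 x10 x11 : K) :
    wordG (ordWord (mk6 x6 x7 x8 x9 x10 x11) 6 6) = xg 6 x6 * xg 7 x7 * U2 x8 x9 x10 x11 := by
  rw [wordG_ordWord]
  simp [mk6]

section

variable [CharP K 3]

/-- the product of two elements in normal form -/
theorem prod_nf (h3 : (3 : K) = 0) (t T a b c d t' T' a' b' c' d' : K) :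
    xg 6 t * xg 7 T * U2 a b c d * (xg 6 t' * xg 7 T' * U2 a' b' c' d') =
      xg 6 (t + t') * xg 7 (T + T') *
        U2 (-(T * t') + (a + a')) (-(T ^ 2 * t') - T' * -(T * t') + (b - T' * a + b'))
          (T ^ 3 * t' + (c + c')) (T ^ 3 * t' ^ 2 + (d - t' * c + d')) := by
  have e1 : xg 6 t * xg 7 T * U2 a b c d * (xg 6 t' * xg 7 T' * U2 a' b' c' d') =
      xg 6 t * xg 7 T * (U2 a b c d * (xg 6 t' * xg 7 T')) * U2 a' b' c' d' := by
    simp only [mul_assoc]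
  rw [e1, U2_mul_X]
  have e2 : xg 6 t * xg 7 T * (xg 6 t' * xg 7 T' * U2 a (b - T' * a) c (d - t' * c)) *
      U2 a' b' c' d' =
      xg 6 t * (xg 7 T * xg 6 t') * xg 7 T' * (U2 a (b - T' * a) c (d - t' * c) * U2 a' b' c' d') := by
    simp only [mul_assoc]
  rw [e2, I1 h3, U2_mul h3]
  have e3 : xg 6 t * (xg 6 t' * xg 7 T * U2 (-(T * t')) (-(T ^ 2 * t')) (T ^ 3 * t') (T ^ 3 * t' ^ 2)) *
      xg 7 T' * U2 (a + a') (b - T' * a + b') (c + c') (d - t' * c + d') =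
      xg 6 t * xg 6 t' * xg 7 T *
        (U2 (-(T * t')) (-(T ^ 2 * t')) (T ^ 3 * t') (T ^ 3 * t' ^ 2) * xg 7 T') *
        U2 (a + a') (b - T' * a + b') (c + c') (d - t' * c + d') := by
    simp only [mul_assoc]
  rw [e3, U2_mul_x7]
  have e4 : xg 6 t * xg 6 t' * xg 7 T *
      (xg 7 T' * U2 (-(T * t')) (-(T ^ 2 * t') - T' * -(T * t')) (T ^ 3 * t') (T ^ 3 * t' ^ 2)) *
      U2 (a + a') (b - T' * a + b') (c + c') (d - t' * c + d') =
      (xg 6 t * xg 6 t') * (xg 7 T * xg 7 T') *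
        (U2 (-(T * t')) (-(T ^ 2 * t') - T' * -(T * t')) (T ^ 3 * t') (T ^ 3 * t' ^ 2) *
          U2 (a + a') (b - T' * a + b') (c + c') (d - t' * c + d')) := by
    simp only [mul_assoc]
  rw [e4, xg_add, xg_add, U2_mul h3]

namespace FieldData

variable {e : ℕ} (FD : FieldData K e)
include FD

/-- the twisted normal form of `α(t,u,v)` -/
theorem al_tw (t u v : K) :
    al e t u v = xg 6 t * xg 7 (t ^ e) *
      U2 (u ^ e) (v ^ e) ((t ^ e) ^ 3 * t + u) ((t ^ e) ^ 3 * t ^ 2 + v) := by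
  rw [al, ← wordG_reeWordU, FD.word_eq_U, FD.twist_reeWordU]

theorem al_mem_pos (t u v : K) : al e t u v ∈ chevG2.posUnipotent K := by
  rw [al, ← wordG_reeWordU]
  exact wordG_mem_pos _ (reeWordU_pos _ t u v)

/-- the first two coordinates of a product -/
theorem al_mul_exists (t u v t' u' v' : K) :
    ∃ v'' : K, al e t u v * al e t' u' v' = al e (t + t') (u + u' - (t' ^ e) ^ 3 * t) v'' := by
  have hU : al e t u v * al e t' u' v' ∈ chevG2.posUnipotent K :=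
    mul_mem (FD.al_mem_pos t u v) (FD.al_mem_pos t' u' v')
  have hG : al e t u v * al e t' u' v' ∈ twistedG2 K e :=
    mul_mem (FieldData.al_mem t u v) (FieldData.al_mem t' u' v')
  obtain ⟨t₀, u₀, v₀, h0⟩ := mem_U1 FD _ hU hG
  have h1 := h0
  rw [FD.al_tw, FD.al_tw, prod_nf FD.h3, ← wordG_mk6, FD.wordG_reeWordU_nf] at h1
  have hm : chevG2.wordMat K (ordWord (mk6 (t + t') (t ^ e + t' ^ e)
      (-(t ^ e * t') + (u ^ e + u' ^ e))
      (-((t ^ e) ^ 2 * t') - t' ^ e * -(t ^ e * t') + (v ^ e - t' ^ e * u ^ e + v' ^ e))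
      ((t ^ e) ^ 3 * t' + ((t ^ e) ^ 3 * t + u + ((t' ^ e) ^ 3 * t' + u')))
      ((t ^ e) ^ 3 * t' ^ 2 + ((t ^ e) ^ 3 * t ^ 2 + v - t' * ((t ^ e) ^ 3 * t + u) +
        ((t' ^ e) ^ 3 * t' ^ 2 + v')))) 6 6) =
      chevG2.wordMat K (ordWord (FieldData.nfc e t₀ u₀ v₀) 6 6) := by
    rw [← wordG_val, ← wordG_val, h1]
  have hu := block_unique 6 6 le_rfl rfl _ _ (congrArg B11 hm) (congrArg B22 hm)
  obtain ⟨n6, _, _, _, n10, _⟩ := FieldData.nfc_vals (e := e) t₀ u₀ v₀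
  have u6 := hu 6 (by norm_num) (by norm_num)
  have u10 := hu 10 (by norm_num) (by norm_num)
  rw [n6] at u6
  rw [n10] at u10
  simp only [mk6] at u6 u10
  norm_num at u6 u10
  refine ⟨v₀, ?_⟩
  rw [h0, wordG_reeWordU, ← al]
  have ht0 : t₀ = t + t' := u6.symm
  have hu0 : u₀ = u + u' - (t' ^ e) ^ 3 * t := by
    have hadd : (t + t') ^ e = t ^ e + t' ^ e := FD.add t t'
    have hcube : (t ^ e + t' ^ e) ^ 3 = (t ^ e) ^ 3 + (t' ^ e) ^ 3 := FD.cube_add _ _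
    rw [ht0, hadd, hcube] at u10
    linear_combination -u10
  rw [ht0, hu0]

/-- the cube of `α(t,u,v)` -/
theorem al_cube (t u v : K) : (al e t u v) ^ 3 = al e 0 0 (-(t ^ 2 * (t ^ e) ^ 3)) := by
  have h := reeU_cube FD t u v
  rw [wordG_reeWordU, ← al] at h
  rw [h]
  by_cases ht : t = 0
  · subst ht
    rw [zero_pow FD.epos, xg_zero, xg_zero]
    simp [FD.al_zero_zero]
  · have hT : t ^ e ≠ 0 := pow_ne_zero _ ht
    have h1 := X_cube (Units.mk0 t ht) (Units.mk0 (t ^ e) hT)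
    simp only [Units.val_mk0] at h1
    rw [h1, FD.al_zero_eq, zero_pow FD.epos]
    have hw : (-(t ^ 2 * (t ^ e) ^ 3)) ^ e = -(t * (t ^ e) ^ 2) := by
      rw [Odd.neg_pow FD.odd, mul_pow]
      have h2 : (t ^ 2) ^ e = (t ^ e) ^ 2 := by rw [← pow_mul, mul_comm, pow_mul]
      have h3 : (((t ^ e) ^ 3) ^ e) = t := by
        rw [← pow_mul, mul_comm, pow_mul]
        exact FD.cube t
      rw [h2, h3]
      ring
    rw [hw]
    simp [U2, xg_zero]

/-- a subgroup containing Ree elements with every first coordinate contains `U¹` -/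
theorem gen_U1 (M : Subgroup (GL chevG2.Idx K))
    (hq : ∀ x : K, x ^ (3 * (3 * e * e)) = x ^ 3)
    (hne : ∃ t₀ : K, (t₀ ^ e) ^ 3 ≠ t₀)
    (hsq : ∀ x : K, ∃ a b : K, a ^ 2 + b ^ 2 = x)
    (hyp : ∀ t : K, ∃ u v : K, al e t u v ∈ M) :
    ∀ t u v : K, al e t u v ∈ M := by
  have hepos : 1 ≤ e := Nat.one_le_iff_ne_zero.mpr FD.epos
  obtain ⟨d, hd⟩ : ∃ d, 3 * e = d + 2 := ⟨3 * e - 2, by omega⟩
  -- the centre
  have hZ : ∀ w : K, al e 0 0 w ∈ M := by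
    intro w
    by_cases hw : w = 0
    · subst hw; rw [FD.al_zero_zero]; exact one_mem _
    have hy0 : (-w)⁻¹ ≠ 0 := inv_ne_zero (neg_ne_zero.mpr hw)
    obtain ⟨y, hy⟩ : ∃ y : K, y = (-w)⁻¹ := ⟨_, rfl⟩
    rw [← hy] at hy0
    obtain ⟨u, v, huv⟩ := hyp (y ^ d)
    have hc := pow_mem huv 3
    rw [FD.al_cube] at hc
    have hexp : (y ^ d) ^ 2 * ((y ^ d) ^ e) ^ 3 = y ^ (d * (d + 4)) := by
      have : (y ^ d) ^ 2 * ((y ^ d) ^ e) ^ 3 = y ^ (d * (3 * e + 2)) := by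
        rw [← pow_mul, ← pow_mul, ← pow_mul, ← pow_add]; congr 1; ring
      rw [this, hd]
    have hN : d * (d + 4) + 4 = 3 * (3 * e * e) := by
      have h1 : d * (d + 4) + 4 = (d + 2) * (d + 2) := by ring
      rw [h1, ← hd]; ring
    have h4 : y ^ (d * (d + 4)) * y ^ 4 = y ^ 3 := by
      rw [← pow_add, hN, hq]
    have h5 : y ^ (d * (d + 4)) = y⁻¹ := by
      have : y ^ (d * (d + 4)) = y ^ 3 / y ^ 4 := by rw [← h4]; field_simp
      rw [this]; field_simp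
    have h6 : -((y ^ d) ^ 2 * ((y ^ d) ^ e) ^ 3) = w := by
      rw [hexp, h5, hy, inv_inv, neg_neg]
    rwa [h6] at hc
  -- the commutators
  have hcomm : ∀ t t' : K, ∃ v : K, al e 0 ((t ^ e) ^ 3 * t' - (t' ^ e) ^ 3 * t) v ∈ M := by
    intro t t'
    obtain ⟨u, v, hs⟩ := hyp t
    obtain ⟨u', v', hs'⟩ := hyp t'
    obtain ⟨v₁, h1⟩ := FD.al_mul_exists t u v t' u' v'
    obtain ⟨v₂, h2⟩ := FD.al_mul_exists t' u' v' t u v
    have hm : (al e t' u' v' * al e t u v)⁻¹ * (al e t u v * al e t' u' v') ∈ M :=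
      mul_mem (inv_mem (mul_mem hs' hs)) (mul_mem hs hs')
    rw [h1, h2, add_comm t' t,
      FD.al_decomp (t + t') (u + u' - (t' ^ e) ^ 3 * t) v₁ (u' + u - (t ^ e) ^ 3 * t') v₂,
      inv_mul_cancel_left] at hm
    refine ⟨v₁ - v₂, ?_⟩
    have e1 : u + u' - (t' ^ e) ^ 3 * t - (u' + u - (t ^ e) ^ 3 * t') =
        (t ^ e) ^ 3 * t' - (t' ^ e) ^ 3 * t := by ring
    rwa [e1] at hm
  -- the second layer
  have hadd : ∀ u u' : K, (∃ v, al e 0 u v ∈ M) → (∃ v, al e 0 u' v ∈ M) →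
      ∃ v, al e 0 (u + u') v ∈ M := by
    rintro u u' ⟨v, hv⟩ ⟨v', hv'⟩
    exact ⟨v + v', by rw [← FD.al_zero_mul]; exact mul_mem hv hv'⟩
  obtain ⟨t₀, ht₀⟩ := hne
  obtain ⟨w₀, hw₀⟩ : ∃ w₀ : K, w₀ = (t₀ ^ e) ^ 3 - t₀ := ⟨_, rfl⟩
  have hw₀0 : w₀ ≠ 0 := by rw [hw₀]; exact sub_ne_zero.mpr ht₀
  have hsc : ∀ l : K, ∃ v, al e 0 (l ^ (3 * e + 1) * w₀) v ∈ M := by
    intro l
    obtain ⟨v, hv⟩ := hcomm (l * t₀) l
    refine ⟨v, ?_⟩
    have e1 : ((l * t₀) ^ e) ^ 3 * l - (l ^ e) ^ 3 * (l * t₀) = l ^ (3 * e + 1) * w₀ := by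
      have hl : l ^ (3 * e + 1) = (l ^ e) ^ 3 * l := by rw [pow_succ, mul_comm 3 e, pow_mul]
      rw [hw₀, hl, mul_pow]
      ring
    rwa [e1] at hv
  have hsq2 : ∀ s : K, ∃ v, al e 0 (s ^ 2 * w₀) v ∈ M := by
    intro s
    by_cases hs : s = 0
    · subst hs
      refine ⟨0, ?_⟩
      simp only [ne_eq, OfNat.ofNat_ne_zero, not_false_eq_true, zero_pow, zero_mul]
      rw [FD.al_zero_zero]; exact one_mem _
    obtain ⟨v, hv⟩ := hsc (s ^ (d + 1))
    refine ⟨v, ?_⟩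
    have hN : (d + 1) * (3 * e + 1) + 1 = 3 * (3 * e * e) := by
      rw [hd]
      have h1 : (d + 1) * (d + 2 + 1) + 1 = (d + 2) * (d + 2) := by ring
      rw [h1, ← hd]; ring
    have h4 : (s ^ (d + 1)) ^ (3 * e + 1) * s = s ^ 3 := by
      rw [← pow_mul, ← pow_succ, hN, hq]
    have h5 : (s ^ (d + 1)) ^ (3 * e + 1) = s ^ 2 := by
      have : (s ^ (d + 1)) ^ (3 * e + 1) = s ^ 3 / s := by rw [← h4]; field_simp
      rw [this]; field_simp
    rwa [h5] at hv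
  have hall : ∀ u : K, ∃ v, al e 0 u v ∈ M := by
    intro u
    obtain ⟨a, b, hab⟩ := hsq (u / w₀)
    have h1 := hadd _ _ (hsq2 a) (hsq2 b)
    have e1 : a ^ 2 * w₀ + b ^ 2 * w₀ = u := by
      rw [← add_mul, hab]; field_simp
    rwa [e1] at h1
  have hU1 : ∀ u v : K, al e 0 u v ∈ M := by
    intro u v
    obtain ⟨v', hv'⟩ := hall u
    have := mul_mem hv' (hZ (v - v'))
    rw [FD.al_zero_mul] at this
    simpa using this
  intro t u v
  obtain ⟨u₁, v₁, h1⟩ := hyp t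
  rw [FD.al_decomp t u v u₁ v₁]
  exact mul_mem h1 (hU1 _ _)

end FieldData

end

end Cfsg.Agent.Helper15.Ree
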