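import Cfsg.Agent.Lib.Helper15.Ree.Gen2b

/-!
# `²G₂(3^(2m+1))`, `m ≥ 1`, is generated by two elements (S2409)
-/

set_option autoImplicit false
set_option linter.unusedSectionVars false
set_option linter.unusedVariables false
set_option maxRecDepth 100000

namespace Cfsg.Agent.Helper15.Ree

open Cfsg Cfsg.Lie Cfsg.Agent.Helper18 Polynomial

theorem finite_field_sq_add_sq {K : Type*} [Field K] [Fintype K] (hodd : Fintype.card K % 2 = 1)
    (x : K) : ∃ a b : K, a ^ 2 + b ^ 2 = x := by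
  let f : K[X] := X ^ 2
  let g : K[X] := X ^ 2 - C x
  obtain ⟨a, b, hab⟩ : ∃ a b, f.eval a + g.eval b = 0 :=
    FiniteField.exists_root_sum_quadratic (f := f) (g := g) (degree_X_pow 2)
      (degree_X_pow_sub_C (by decide) _) hodd
  refine ⟨a, b, ?_⟩
  rw [← sub_eq_zero]
  simpa only [f, g, eval_C, eval_X, eval_pow, eval_sub, ← add_sub_assoc] using hab

theorem twistedG2_two_gen {K : Type*} [Field K] [Fintype K] {m : ℕ} (hm : 1 ≤ m)
    (hK : Fintype.card K = 3 ^ (2 * m + 1)) :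
    ∃ a b : ↥(twistedG2 K (3 ^ m)),
      Subgroup.closure ({a, b} : Set ↥(twistedG2 K (3 ^ m))) = ⊤ := by
  classical
  haveI : Fact (Nat.Prime 3) := ⟨by norm_num⟩
  haveI : CharP K 3 := charP_of_card_eq_prime_pow hK
  have FD := fieldData_of_card hK
  have h3 : (3 : K) = 0 := FD.h3
  obtain ⟨e, he⟩ : ∃ e, e = 3 ^ m := ⟨_, rfl⟩
  rw [← he] at FD ⊢
  have he3 : 3 ≤ e := by
    rw [he]
    calc 3 = 3 ^ 1 := by norm_num
      _ ≤ 3 ^ m := Nat.pow_le_pow_right (by norm_num) hm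
  have hcard : Fintype.card K = 3 * e * e := by rw [hK, he]; ring
  obtain ⟨μ₀, hμ₀⟩ := IsCyclic.exists_generator (α := Kˣ)
  have hmemh : Phi e μ₀ ∈ twistedG2 K e := by rw [he]; exact Phi_mem_G hK μ₀
  have hmemb : (n1g : GL chevG2.Idx K) * al e 1 0 0 ∈ twistedG2 K e :=
    mul_mem (n1_mem FD) (FieldData.al_mem 1 0 0)
  refine ⟨⟨Phi e μ₀, hmemh⟩, ⟨(n1g : GL chevG2.Idx K) * al e 1 0 0, hmemb⟩, ?_⟩
  obtain ⟨M, hM⟩ : ∃ M : Subgroup (GL chevG2.Idx K),
      M = Subgroup.closure {Phi e μ₀, (n1g : GL chevG2.Idx K) * al e 1 0 0} := ⟨_, rfl⟩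
  have hhM : Phi e μ₀ ∈ M := by rw [hM]; exact Subgroup.subset_closure (by simp)
  have hbM : (n1g : GL chevG2.Idx K) * al e 1 0 0 ∈ M := by
    rw [hM]; exact Subgroup.subset_closure (by simp)
  suffices hle : twistedG2 K e ≤ M by
    rw [eq_top_iff]
    intro x _
    have h1 : (Subgroup.closure ({⟨Phi e μ₀, hmemh⟩, ⟨(n1g : GL chevG2.Idx K) * al e 1 0 0, hmemb⟩} :
        Set ↥(twistedG2 K e))).map (twistedG2 K e).subtype = M := by
      rw [MonoidHom.map_closure, hM]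
      congr 1
      simp [Set.image_pair]
    have h2 : (x : GL chevG2.Idx K) ∈ M := hle x.2
    rw [← h1] at h2
    obtain ⟨y, hy, hyx⟩ := h2
    have hyx' : y = x := Subtype.ext hyx
    rwa [hyx'] at hy
  -- the torus
  have hPhi : ∀ x : Kˣ, Phi e x ∈ M := by
    intro x
    obtain ⟨k, rfl⟩ := Subgroup.mem_zpowers_iff.mp (hμ₀ x)
    have : Phi e (μ₀ ^ k) = (Phi e μ₀) ^ k := map_zpow (PhiHom e) μ₀ k
    rw [this]
    exact zpow_mem hhM k
  -- `n₁ α(x,0,0) ∈ M`
  have hna : ∀ x : Kˣ, (n1g : GL chevG2.Idx K) * al e (x : K) 0 0 ∈ M := by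
    intro x
    have hc1 : Phi e x * al e 1 0 0 * (Phi e x)⁻¹ = al e (x : K) 0 0 := by
      rw [← MulAut.conj_apply]
      unfold Phi al
      rw [conj_Ap_T]
      obtain ⟨c6, -, -⟩ := chiT_Phi e x
      have c7 : chiT ((x ^ e) ^ 2 * x) ((x ^ e) ^ 3 * x ^ 2) 7 = (x : K) ^ e := by
        have hx := x.ne_zero
        simp only [chiT]
        push_cast
        field_simp
      rw [c6, c7, zero_pow FD.epos, one_pow]
      simp
    have hc2 : Phi e x * (n1g : GL chevG2.Idx K) * (Phi e x)⁻¹ =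
        Phi e x * Phi e x * (n1g : GL chevG2.Idx K) := by
      have h4 : MulAut.conj (n1g : GL chevG2.Idx K) ((Phi e x)⁻¹) = Phi e x := by
        rw [map_inv]
        unfold Phi
        rw [n1_conj_Tt, Tt_inv, inv_inv, inv_inv]
      rw [MulAut.conj_apply] at h4
      calc Phi e x * (n1g : GL chevG2.Idx K) * (Phi e x)⁻¹
          = Phi e x * ((n1g : GL chevG2.Idx K) * (Phi e x)⁻¹ * (n1g : GL chevG2.Idx K)⁻¹) *
              (n1g : GL chevG2.Idx K) := by group
        _ = _ := by rw [h4]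
    have h5 : Phi e x * ((n1g : GL chevG2.Idx K) * al e 1 0 0) * (Phi e x)⁻¹ ∈ M :=
      mul_mem (mul_mem (hPhi x) hbM) (inv_mem (hPhi x))
    have e5 : Phi e x * ((n1g : GL chevG2.Idx K) * al e 1 0 0) * (Phi e x)⁻¹ =
        (Phi e x * (n1g : GL chevG2.Idx K) * (Phi e x)⁻¹) *
          (Phi e x * al e 1 0 0 * (Phi e x)⁻¹) := by group
    rw [e5, hc1, hc2] at h5
    have h6 := mul_mem (inv_mem (mul_mem (hPhi x) (hPhi x))) h5
    have e6 : (Phi e x * Phi e x)⁻¹ *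
        (Phi e x * Phi e x * (n1g : GL chevG2.Idx K) * al e (x : K) 0 0) =
        (n1g : GL chevG2.Idx K) * al e (x : K) 0 0 := by group
    rwa [e6] at h6
  -- every first coordinate occurs
  have hyp : ∀ t : K, ∃ u v : K, al e t u v ∈ M := by
    intro t
    by_cases ht : t = 0
    · subst ht
      exact ⟨0, 0, by rw [FD.al_zero_zero]; exact one_mem _⟩
    obtain ⟨u₁, v₁, hkey⟩ := FD.key_step (-1 : Kˣ) (Units.mk0 t ht)
    refine ⟨u₁, v₁, ?_⟩
    have e1 : (((-1 : Kˣ) : K) - 1) * ((Units.mk0 t ht : Kˣ) : K) = t := by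
      simp only [Units.val_neg, Units.val_one, Units.val_mk0]
      linear_combination (-t) * h3
    rw [e1] at hkey
    rw [← hkey]
    have hx := hna (Units.mk0 t ht)
    have hy := hna ((-1 : Kˣ) * Units.mk0 t ht)
    have e2 : (((-1 : Kˣ) * Units.mk0 t ht : Kˣ) : K) = ((-1 : Kˣ) : K) * ((Units.mk0 t ht : Kˣ) : K) :=
      Units.val_mul _ _
    rw [e2] at hy
    have h7 := mul_mem (inv_mem hx) hy
    have e7 : ((n1g : GL chevG2.Idx K) * al e ((Units.mk0 t ht : Kˣ) : K) 0 0)⁻¹ *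
        ((n1g : GL chevG2.Idx K) * al e (((-1 : Kˣ) : K) * ((Units.mk0 t ht : Kˣ) : K)) 0 0) =
        (al e ((Units.mk0 t ht : Kˣ) : K) 0 0)⁻¹ *
          al e (((-1 : Kˣ) : K) * ((Units.mk0 t ht : Kˣ) : K)) 0 0 := by group
    rwa [e7] at h7
  -- the hypotheses on the field
  have hq : ∀ x : K, x ^ (3 * (3 * e * e)) = x ^ 3 := by
    intro x
    rw [mul_comm 3 (3 * e * e), pow_mul, ← hcard, FiniteField.pow_card]
  have hne : ∃ t₀ : K, (t₀ ^ e) ^ 3 ≠ t₀ := by
    by_contra hall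
    push Not at hall
    have h1 : ((μ₀ : K) ^ e) ^ 3 = μ₀ := hall μ₀
    have h2 : μ₀ ^ (3 * e) = μ₀ := by
      apply Units.ext
      rw [Units.val_pow_eq_pow_val, mul_comm, pow_mul]
      exact h1
    obtain ⟨d, hd⟩ : ∃ d, 3 * e = d + 1 := ⟨3 * e - 1, by omega⟩
    have h3' : μ₀ ^ d = 1 := by
      rw [hd, pow_succ] at h2
      exact mul_right_cancel (b := μ₀) (by rw [h2, one_mul])
    have h4 : orderOf μ₀ ∣ d := orderOf_dvd_of_pow_eq_one h3'
    have h5 : orderOf μ₀ = 3 * e * e - 1 := by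
      rw [orderOf_eq_card_of_forall_mem_zpowers hμ₀, Nat.card_eq_fintype_card, Fintype.card_units,
        hcard]
    have hd0 : 0 < d := by omega
    have h6 := Nat.le_of_dvd hd0 h4
    rw [h5] at h6
    have h7 : 3 * e * e ≥ 3 * e * 3 := Nat.mul_le_mul_left _ he3
    omega
  have hodd : Fintype.card K % 2 = 1 := by
    rw [hK, Nat.pow_mod]
    norm_num
  have hall := FD.gen_U1 M hq hne (finite_field_sq_add_sq hodd) hyp
  -- `n₁ ∈ M`
  have hn1 : (n1g : GL chevG2.Idx K) ∈ M := by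
    have := mul_mem hbM (inv_mem (hall 1 0 0))
    rwa [mul_inv_cancel_right] at this
  -- the generators
  conv_lhs => unfold twistedG2 ChevalleyDatum.genSubgroup
  rw [Subgroup.closure_le]
  rintro g ⟨w, hw, hgw⟩
  have hg' : g = wordG w := Units.ext (by rw [hgw, wordG_val])
  obtain ⟨t, u, v, rfl | rfl⟩ := hw
  · rw [SetLike.mem_coe, hg', wordG_reeWordU, ← al]
    exact hall t u v
  · rw [SetLike.mem_coe, hg', wordV_eq_conj FD, wordG_reeWordU, ← al]
    exact mul_mem (mul_mem hn1 (hall t u v)) (inv_mem hn1)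

end Cfsg.Agent.Helper15.Ree
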