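import Cfsg.Agent.Lib.Helper15.Ree.TorusConj

/-!
# The elements of odd order of the torus `H¹` of `²G₂` (S1151)
-/

set_option autoImplicit false
set_option linter.unusedSectionVars false
set_option maxRecDepth 100000

namespace Cfsg.Agent.Helper15.Ree

open Cfsg.Lie Cfsg.Agent.Helper18 Cfsg.Agent.Helper6

variable {K : Type*} [Field K]

theorem Phi_one (e : ℕ) : Phi e (1 : Kˣ) = 1 := by unfold Phi; simp [Tt_one]

/-- `Phi` as a homomorphism -/
noncomputable def PhiHom (e : ℕ) : Kˣ →* GL chevG2.Idx K where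
  toFun := Phi e
  map_one' := Phi_one e
  map_mul' := Phi_mul e

theorem Phi_injective (e : ℕ) : Function.Injective (Phi (K := K) e) := by
  intro μ μ' h
  have h2 := congrArg (fun g : GL chevG2.Idx K => (g : Matrix chevG2.Idx chevG2.Idx K) e6 e6) h
  simp only [Phi_entry6] at h2
  exact Units.ext h2

theorem orderOf_Phi (e : ℕ) (μ : Kˣ) : orderOf (Phi e μ) = orderOf μ :=
  orderOf_injective (PhiHom e) (Phi_injective e) μ

/-- the character values of `Phi μ` -/
theorem chiT_Phi (e : ℕ) (μ : Kˣ) :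
    chiT ((μ ^ e) ^ 2 * μ) ((μ ^ e) ^ 3 * μ ^ 2) 6 = (μ : K) ∧
    chiT ((μ ^ e) ^ 2 * μ) ((μ ^ e) ^ 3 * μ ^ 2) 10 = (((μ ^ e) ^ 3 * μ : Kˣ) : K) ∧
    chiT ((μ ^ e) ^ 2 * μ) ((μ ^ e) ^ 3 * μ ^ 2) 11 = (((μ ^ e) ^ 3 * μ ^ 2 : Kˣ) : K) := by
  have hμ := μ.ne_zero
  refine ⟨?_, ?_, ?_⟩
  · simp only [chiT]; push_cast; field_simp
  · simp only [chiT]; push_cast; field_simp
  · simp only [chiT]

/-- the units of odd order of a field with `3^(2m+1)` elements -/
theorem card_odd_units [Fintype K] {m : ℕ} (hK : Fintype.card K = 3 ^ (2 * m + 1)) (h3 : (3 : K) = 0) :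
    2 * Nat.card {x : Kˣ // Odd (orderOf x)} = 3 ^ (2 * m + 1) - 1 := by
  classical
  have hmod : 3 ^ (2 * m + 1) % 4 = 3 := by
    rw [pow_succ, pow_mul]
    norm_num [Nat.mul_mod, Nat.pow_mod]
  obtain ⟨N, hN⟩ : ∃ N, 3 ^ (2 * m + 1) = 2 * N + 1 := ⟨3 ^ (2 * m + 1) / 2, by omega⟩
  have hNodd : Odd N := by
    rw [Nat.odd_iff]; omega
  have hcard : Fintype.card Kˣ = 2 * N := by rw [Fintype.card_units, hK, hN]; omega
  have hpow : ∀ x : Kˣ, x ^ (2 * N) = 1 := fun x => by rw [← hcard]; exact pow_card_eq_one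
  have key : ∀ x : Kˣ, Odd (orderOf x) ↔ x ^ N = 1 := by
    intro x
    constructor
    · intro ho
      have h1 : orderOf x ∣ 2 * N := orderOf_dvd_of_pow_eq_one (hpow x)
      have h2 : Nat.Coprime (orderOf x) 2 := Nat.Coprime.symm (Nat.coprime_two_left.mpr ho)
      exact orderOf_dvd_iff_pow_eq_one.mp (h2.dvd_of_dvd_mul_left h1)
    · intro h
      exact Odd.of_dvd_nat hNodd (orderOf_dvd_of_pow_eq_one h)
  have hneg1 : (-1 : Kˣ) ≠ 1 := by
    intro h
    have h' : (-1 : K) = 1 := by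
      have := congrArg (fun u : Kˣ => (u : K)) h
      simpa using this
    have h2 : (1 : K) = 0 := by linear_combination (1 : K) * h3 + h'
    exact one_ne_zero h2
  have hsq : ∀ x : Kˣ, x ^ N = 1 ∨ x ^ N = -1 := by
    intro x
    have h1 : ((x ^ N : Kˣ) : K) * ((x ^ N : Kˣ) : K) = 1 := by
      rw [← Units.val_mul, ← pow_add, ← two_mul, hpow x, Units.val_one]
    rcases mul_self_eq_one_iff.mp h1 with h | h
    · left; exact Units.ext h
    · right; exact Units.ext (by rw [h]; simp)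
  let E : {x : Kˣ // x ^ N = 1} ≃ {x : Kˣ // ¬ x ^ N = 1} :=
    { toFun := fun x => ⟨-x.1, by
        rw [Odd.neg_pow hNodd, x.2]; exact hneg1⟩
      invFun := fun y => ⟨-y.1, by
        rw [Odd.neg_pow hNodd]
        rcases hsq y.1 with h | h
        · exact absurd h y.2
        · rw [h, neg_neg]⟩
      left_inv := fun x => Subtype.ext (neg_neg _)
      right_inv := fun y => Subtype.ext (neg_neg _) }
  have h1 : Fintype.card {x : Kˣ // x ^ N = 1} + Fintype.card {x : Kˣ // ¬ x ^ N = 1} =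
      Fintype.card Kˣ := by
    rw [← Fintype.card_sum]
    exact Fintype.card_congr (Equiv.sumCompl _)
  rw [← Fintype.card_congr E, hcard] at h1
  have h2 : Nat.card {x : Kˣ // Odd (orderOf x)} = Fintype.card {x : Kˣ // x ^ N = 1} := by
    rw [← Nat.card_eq_fintype_card]
    exact Nat.card_congr (Equiv.subtypeEquivRight key)
  rw [h2, hN]
  omega

end Cfsg.Agent.Helper15.Ree
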