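import Cfsg.Agent.Lib.Helper15.Ree.Basic

/-!
# `²G₂(3^(2m+1))` is perfect for `m ≥ 1` (S1116): the main argument
-/

set_option autoImplicit false

namespace Cfsg.Agent.Helper15.Ree

open Cfsg.Lie Cfsg.Agent.Helper18

variable {K : Type*} [Field K]

/-! ### The element `J` realising `x_r(s) ↦ x_{-r}(-s)` -/

/-- `J = n_7 n_6 n_7 n_6 n_7 n_6` -/
noncomputable def Jg : GL chevG2.Idx K := wordG (evalWord (1 : Kˣ) (1 : Kˣ) jW)

theorem J_mul_xg (r : ℕ) (hr : r < 12) (s : K) :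
    (Jg : GL chevG2.Idx K) * xg r s = xg (chevG2.neg r) (-s) * Jg := by
  by_cases hs : s = 0
  · subst hs; simp [xg_zero]
  have hc := (List.all_eq_true.mp chk_J) r (List.mem_range.mpr hr)
  have h := wordG_eq_of_check (Units.mk0 s hs) (1 : Kˣ) _ _ hc
  rw [evalWord_append, evalWord_append, wordG_append, wordG_append] at h
  have ej : evalWord (Units.mk0 s hs) (1 : Kˣ) jW = evalWord (1 : Kˣ) (1 : Kˣ) jW := by
    simp [evalWord, jW, kc, LP.eval, LP.evalMono]
  have e1 : wordG (evalWord (Units.mk0 s hs) (1 : Kˣ) [(r, va)]) = xg r s := by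
    simp [evalWord, va, LP.eval, LP.evalMono, wordG]
  have e2 : wordG (evalWord (Units.mk0 s hs) (1 : Kˣ) [(chevG2.neg r, [(-1, 1, 0)])]) =
      xg (chevG2.neg r) (-s) := by
    simp [evalWord, LP.eval, LP.evalMono, wordG]
  rw [ej, e1, e2] at h
  exact h

theorem J_conj_xg (r : ℕ) (hr : r < 12) (s : K) :
    MulAut.conj (Jg : GL chevG2.Idx K) (xg r s) = xg (chevG2.neg r) (-s) := by
  rw [MulAut.conj_apply, J_mul_xg r hr, mul_assoc, mul_inv_cancel, mul_one]

theorem J_conj_word (w : List (ℕ × K)) (hw : ∀ p ∈ w, p.1 < 12) :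
    MulAut.conj (Jg : GL chevG2.Idx K) (wordG w) = wordG (chevG2.negWord w) := by
  induction w with
  | nil => simp [wordG, ChevalleyDatum.negWord]
  | cons p w ih =>
    have h1 : chevG2.negWord (p :: w) = (chevG2.neg p.1, -p.2) :: chevG2.negWord w := by
      simp [ChevalleyDatum.negWord, ChevalleyDatum.neg]
    rw [h1, wordG_cons, wordG_cons, map_mul, J_conj_xg p.1 (hw p List.mem_cons_self),
      ih fun q hq => hw q (List.mem_cons_of_mem _ hq)]

theorem neg_neg12 : ∀ r < 12, chevG2.neg (chevG2.neg r) = r := by decide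
theorem neg_lt12 : ∀ r < 12, chevG2.neg r < 12 := by decide

theorem negWord_negWord (w : List (ℕ × K)) (hw : ∀ p ∈ w, p.1 < 12) :
    chevG2.negWord (chevG2.negWord w) = w := by
  induction w with
  | nil => simp [ChevalleyDatum.negWord]
  | cons p w ih =>
    have h1 : ∀ (q : ℕ × K) (l : List (ℕ × K)),
        chevG2.negWord (q :: l) = (chevG2.neg q.1, -q.2) :: chevG2.negWord l := by
      intro q l; simp [ChevalleyDatum.negWord, ChevalleyDatum.neg]
    rw [h1, h1, ih fun q hq => hw q (List.mem_cons_of_mem _ hq)]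
    simp only [neg_neg, neg_neg12 p.1 (hw p List.mem_cons_self)]

theorem negWord_lt (w : List (ℕ × K)) (hw : ∀ p ∈ w, p.1 < 12) :
    ∀ p ∈ chevG2.negWord w, p.1 < 12 := by
  intro p hp
  simp only [ChevalleyDatum.negWord, List.mem_map] at hp
  obtain ⟨q, hq, rfl⟩ := hp
  exact neg_lt12 q.1 (hw q hq)

/-! ### The σ-fixed unipotent elements -/

/-- pre-Ree element -/
noncomputable def Ap (t T u U v V : K) : GL chevG2.Idx K :=
  xg 7 T * xg 6 t * xg 8 (t * T + U) * xg 9 (t * T ^ 2 + V) * xg 10 u * xg 11 v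

theorem reeWordU_lt (e : ℕ) (t u v : K) : ∀ p ∈ reeWordU e t u v, p.1 < 12 := by
  intro p hp
  simp only [reeWordU, g2a, g2b, g2ab, g2aab, g2aaab, g2aaabb, List.mem_cons,
    List.not_mem_nil, or_false] at hp
  rcases hp with rfl | rfl | rfl | rfl | rfl | rfl <;> norm_num

theorem wordG_reeWordU (e : ℕ) (t u v : K) :
    wordG (reeWordU e t u v) = Ap t (t ^ e) u (u ^ e) v (v ^ e) := by
  unfold reeWordU Ap
  rw [show t ^ (e + 1) = t * t ^ e by ring, show t ^ (2 * e + 1) = t * (t ^ e) ^ 2 by ring]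
  simp [wordG, g2a, g2b, g2ab, g2aab, g2aaab, g2aaabb, mul_assoc]

theorem chi_8 (p q : Kˣ) : chi p q 8 = chi p q 6 * chi p q 7 := by
  simp only [chi]
  field_simp

theorem chi_9 (p q : Kˣ) : chi p q 9 = chi p q 6 * chi p q 7 ^ 2 := by
  simp only [chi]
  field_simp

theorem conj_Ap (p q : Kˣ) (t T u U v V : K) :
    MulAut.conj (Hh p q) (Ap t T u U v V) =
      Ap (chi p q 6 * t) (chi p q 7 * T) (chi p q 10 * u) (chi p q 8 * U) (chi p q 11 * v)
        (chi p q 9 * V) := by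
  unfold Ap
  simp only [map_mul]
  rw [Hh_conj_xg p q 7 (by norm_num) (by norm_num), Hh_conj_xg p q 6 (by norm_num) (by norm_num),
    Hh_conj_xg p q 8 (by norm_num) (by norm_num), Hh_conj_xg p q 9 (by norm_num) (by norm_num),
    Hh_conj_xg p q 10 (by norm_num) (by norm_num), Hh_conj_xg p q 11 (by norm_num) (by norm_num)]
  have e8' : chi p q 8 * (t * T + U) = chi p q 6 * t * (chi p q 7 * T) + chi p q 8 * U := by
    rw [chi_8]; ring
  have e9' : chi p q 9 * (t * T ^ 2 + V) =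
      chi p q 6 * t * (chi p q 7 * T) ^ 2 + chi p q 9 * V := by
    rw [chi_9]; ring
  rw [e8', e9']


/-! ### Sorting products in the abelian group `⟨X_8, X_9, X_10, X_11⟩` (characteristic 3) -/

theorem lc (r s : ℕ) (h : ∀ x y : K, xg r x * xg s y = xg s y * xg r x) (x y : K)
    (z : GL chevG2.Idx K) : xg s y * (xg r x * z) = xg r x * (xg s y * z) := by
  rw [← mul_assoc, ← h, mul_assoc]

theorem xg_add_assoc (r : ℕ) (x y : K) (z : GL chevG2.Idx K) :
    xg r x * (xg r y * z) = xg r (x + y) * z := by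
  rw [← mul_assoc, xg_add]

/-- elements of the abelian group `U₂` -/
noncomputable def U2 (a b c d : K) : GL chevG2.Idx K := xg 8 a * xg 9 b * xg 10 c * xg 11 d

theorem U2_mul (h3 : (3 : K) = 0) (a b c d a' b' c' d' : K) :
    U2 a b c d * U2 a' b' c' d' = U2 (a + a') (b + b') (c + c') (d + d') := by
  unfold U2
  simp only [mul_assoc]
  rw [lc 8 11 comm_8_11, lc 8 10 comm_8_10, lc 8 9 (comm_8_9 h3), xg_add_assoc,
    lc 9 11 comm_9_11, lc 9 10 comm_9_10, xg_add_assoc, lc 10 11 comm_10_11, xg_add_assoc, xg_add]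

theorem Ap_eq_U2 (t T u U v V : K) :
    Ap t T u U v V = xg 7 T * xg 6 t * U2 (t * T + U) (t * T ^ 2 + V) u v := by
  unfold Ap U2
  simp only [mul_assoc]

theorem U2_zero : U2 (0 : K) 0 0 0 = 1 := by simp [U2, xg_zero]

/-! ### Field data -/

/-- what is needed of the field `K` and of `θ = (·)^e` -/
structure FieldData (K : Type*) [Field K] (e : ℕ) : Prop where
  h3 : (3 : K) = 0
  add : ∀ x y : K, (x + y) ^ e = x ^ e + y ^ e
  cube : ∀ x : K, ((x ^ e) ^ e) ^ 3 = x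
  odd : Odd e

namespace FieldData

variable {e : ℕ} (FD : FieldData K e)
include FD

theorem epos : e ≠ 0 := by
  obtain ⟨k, hk⟩ := FD.odd
  omega

/-- `θ` as a ring homomorphism -/
noncomputable def phi : K →+* K where
  toFun x := x ^ e
  map_one' := one_pow e
  map_mul' x y := mul_pow x y e
  map_zero' := zero_pow FD.epos
  map_add' := FD.add

theorem phi_apply (x : K) : FD.phi x = x ^ e := rfl

theorem phi_cube (x : K) : (FD.phi (FD.phi x)) ^ 3 = x := FD.cube x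

end FieldData

/-! ### The Ree elements -/

/-- `α(t,u,v)` -/
noncomputable def al (e : ℕ) (t u v : K) : GL chevG2.Idx K := Ap t (t ^ e) u (u ^ e) v (v ^ e)

theorem al_eq_U2 (e : ℕ) (t u v : K) :
    al e t u v = xg 7 (t ^ e) * xg 6 t * U2 (t * t ^ e + u ^ e) (t * (t ^ e) ^ 2 + v ^ e) u v :=
  Ap_eq_U2 _ _ _ _ _ _

namespace FieldData

variable {e : ℕ} (FD : FieldData K e)
include FD

theorem al_zero_eq (u v : K) : al e 0 u v = U2 (u ^ e) (v ^ e) u v := by
  rw [al_eq_U2, zero_pow FD.epos, xg_zero, xg_zero]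
  simp

/-- the decomposition `α(t,u,v) = α(t,u₁,v₁) α(0,u-u₁,v-v₁)` -/
theorem al_decomp (t u v u₁ v₁ : K) :
    al e t u v = al e t u₁ v₁ * al e 0 (u - u₁) (v - v₁) := by
  rw [al_eq_U2, al_eq_U2, FD.al_zero_eq, mul_assoc _ (U2 _ _ _ _), U2_mul FD.h3]
  have e1 : (u - u₁) ^ e = u ^ e - u₁ ^ e := map_sub FD.phi u u₁
  have e2 : (v - v₁) ^ e = v ^ e - v₁ ^ e := map_sub FD.phi v v₁
  rw [e1, e2]
  congr 2 <;> ring

theorem al_zero_mul (u v u' v' : K) :
    al e 0 u v * al e 0 u' v' = al e 0 (u + u') (v + v') := by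
  rw [FD.al_zero_eq, FD.al_zero_eq, FD.al_zero_eq, U2_mul FD.h3, FD.add, FD.add]

theorem al_zero_zero : al e (0 : K) 0 0 = 1 := by
  rw [FD.al_zero_eq, zero_pow FD.epos, U2_zero]

theorem al_zero_inv (u v : K) : (al e 0 u v)⁻¹ = al e 0 (-u) (-v) := by
  rw [inv_eq_iff_mul_eq_one, FD.al_zero_mul, add_neg_cancel, add_neg_cancel, FD.al_zero_zero]

/-- the torus element `h(λ)` -/
noncomputable def hl (l : Kˣ) : GL chevG2.Idx K := Hh (l ^ e) l

omit FD in
theorem chi_hl_6 (l : Kˣ) : chi (l ^ e) l 6 = ((l : K) ^ e) ^ 3 * (l : K)⁻¹ := by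
  simp [chi]

/-- the action of `h(λ)` on the Ree elements -/
theorem conj_hl_al (l : Kˣ) (t u v : K) :
    MulAut.conj (hl (e := e) l) (al e t u v) =
      al e (chi (l ^ e) l 6 * t) (chi (l ^ e) l 10 * u) (chi (l ^ e) l 11 * v) := by
  unfold hl al
  rw [conj_Ap]
  have hl0 : (l : K) ≠ 0 := l.ne_zero
  have hc := FD.cube (l : K)
  have h7 : chi (l ^ e) l 7 = (chi (l ^ e) l 6) ^ e := by
    simp only [chi, Units.val_pow_eq_pow_val, mul_pow, inv_pow]
    rw [← pow_mul, mul_comm 3 e, pow_mul, hc]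
    ring
  have h8 : chi (l ^ e) l 8 = (chi (l ^ e) l 10) ^ e := by
    simp only [chi, Units.val_pow_eq_pow_val]
    ring
  have h9 : chi (l ^ e) l 9 = (chi (l ^ e) l 11) ^ e := by
    simp only [chi, Units.val_pow_eq_pow_val, mul_pow]
    rw [← pow_mul, mul_comm 3 e, pow_mul, hc]
    ring
  rw [h7, h8, h9, mul_pow, mul_pow, mul_pow]


/-! ### Membership in `G = ²G₂` -/

omit FD in
theorem wordU_mem (t u v : K) : wordG (reeWordU e t u v) ∈ twistedG2 K e :=
  Subgroup.subset_closure ⟨reeWordU e t u v, ⟨t, u, v, Or.inl rfl⟩, wordG_val _⟩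

omit FD in
theorem wordV_mem (t u v : K) : wordG (reeWordV e t u v) ∈ twistedG2 K e :=
  Subgroup.subset_closure ⟨reeWordV e t u v, ⟨t, u, v, Or.inr rfl⟩, wordG_val _⟩

omit FD in
theorem al_mem (t u v : K) : al e t u v ∈ twistedG2 K e := by
  rw [al, ← wordG_reeWordU]
  exact wordU_mem t u v

omit FD in
theorem ng_vals : chevG2.negIdx[7]?.getD 0 = 4 ∧ chevG2.negIdx[6]?.getD 0 = 5 ∧
    chevG2.negIdx[8]?.getD 0 = 3 ∧ chevG2.negIdx[9]?.getD 0 = 2 ∧ chevG2.negIdx[10]?.getD 0 = 1 ∧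
    chevG2.negIdx[11]?.getD 0 = 0 := by decide

theorem wordV_zero (u : K) : wordG (reeWordV e 0 u 0) = xg 3 (-(u ^ e)) * xg 1 (-u) := by
  obtain ⟨h7, h6, h8, h9, h10, h11⟩ := ng_vals
  have he1 : e + 1 ≠ 0 := by omega
  have he2 : 2 * e + 1 ≠ 0 := by omega
  simp [reeWordV, reeWordU, ChevalleyDatum.negWord, wordG, g2a, g2b, g2ab, g2aab, g2aaab,
    g2aaabb, h7, h6, h8, h9, h10, h11, zero_pow FD.epos, zero_pow he1, zero_pow he2, xg_zero]

theorem al_zero_u (u : K) : al e 0 u 0 = xg 8 (u ^ e) * xg 10 u := by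
  rw [FD.al_zero_eq, zero_pow FD.epos]
  simp [U2, xg_zero]

theorem hl_mem (l : Kˣ) : hl (e := e) l ∈ twistedG2 K e := by
  unfold hl
  rw [Hh_eq]
  have hm1 : ((-1 : K)) ^ e = -1 := FD.odd.neg_one_pow
  have a1 : xg 8 (((l ^ e : Kˣ) : K)) * xg 10 (l : K) ∈ twistedG2 K e := by
    rw [Units.val_pow_eq_pow_val, ← FD.al_zero_u]
    exact al_mem _ _ _
  have a2 : xg 3 (-(((l ^ e : Kˣ)⁻¹ : Kˣ) : K)) * xg 1 (-((l⁻¹ : Kˣ) : K)) ∈ twistedG2 K e := by
    have := wordV_mem (e := e) (0 : K) ((l⁻¹ : Kˣ) : K) 0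
    rw [FD.wordV_zero] at this
    have e1 : (((l ^ e : Kˣ)⁻¹ : Kˣ) : K) = (((l⁻¹ : Kˣ) : K)) ^ e := by
      rw [← inv_pow, Units.val_pow_eq_pow_val]
    rw [e1]
    exact this
  have a3 : xg 8 (-1 : K) * xg 10 (-1 : K) ∈ twistedG2 K e := by
    have := al_mem (e := e) (0 : K) (-1) 0
    rw [FD.al_zero_u, hm1] at this
    exact this
  have a4 : xg 3 (1 : K) * xg 1 (1 : K) ∈ twistedG2 K e := by
    have := wordV_mem (e := e) (0 : K) (-1) 0
    rw [FD.wordV_zero, hm1, neg_neg] at this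
    exact this
  exact mul_mem (mul_mem (mul_mem (mul_mem (mul_mem a1 a2) a1) a3) a4) a3

/-! ### The commutator subgroup -/

omit FD in
theorem comm_mem' {g h : GL chevG2.Idx K} (hg : g ∈ twistedG2 K e) (hh : h ∈ twistedG2 K e) :
    g * h * g⁻¹ * h⁻¹ ∈ ⁅twistedG2 K e, twistedG2 K e⁆ := by
  have := Subgroup.commutator_mem_commutator hg hh
  rwa [commutatorElement_def] at this

/-- `α(0,u,v) ∈ G'` -/
theorem al_zero_mem (l : Kˣ) (h10 : chi (l ^ e) l 10 ≠ 1) (h11 : chi (l ^ e) l 11 ≠ 1) (u v : K) :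
    al e 0 u v ∈ ⁅twistedG2 K e, twistedG2 K e⁆ := by
  set c₂ := chi (l ^ e) l 10 with hc₂
  set c₃ := chi (l ^ e) l 11 with hc₃
  have h2 : c₂ - 1 ≠ 0 := sub_ne_zero.mpr h10
  have h3' : c₃ - 1 ≠ 0 := sub_ne_zero.mpr h11
  have key := comm_mem' (FD.hl_mem l) (al_mem (e := e) 0 (u / (c₂ - 1)) (v / (c₃ - 1)))
  have hconj : hl (e := e) l * al e 0 (u / (c₂ - 1)) (v / (c₃ - 1)) * (hl (e := e) l)⁻¹ =
      al e 0 (c₂ * (u / (c₂ - 1))) (c₃ * (v / (c₃ - 1))) := by
    have := FD.conj_hl_al l 0 (u / (c₂ - 1)) (v / (c₃ - 1))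
    rw [MulAut.conj_apply, mul_zero] at this
    exact this
  rw [hconj, FD.al_zero_inv, FD.al_zero_mul] at key
  have e1 : c₂ * (u / (c₂ - 1)) + -(u / (c₂ - 1)) = u := by field_simp; ring
  have e2 : c₃ * (v / (c₃ - 1)) + -(v / (c₃ - 1)) = v := by field_simp; ring
  rwa [e1, e2] at key


/-! ### The collection step -/

omit FD in
/-- the collection identity in terms of `Ap` -/
theorem coll_Ap (c C : Kˣ) :
    (Ap (1 : K) 1 0 0 0 0)⁻¹ * Ap (c : K) (C : K) 0 0 0 0 =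
      Ap ((c : K) - 1) ((C : K) - 1) ((C : K) ^ 3 - 1) ((c : K) - 1)
        (-2 - (C : K) ^ 3 + c + 2 * c * (C : K) ^ 3) (((c : K) - 1) * (2 * (C : K) - 1)) := by
  have h := coll c C
  unfold Ap
  simp only [mul_inv_rev, xg_inv, neg_zero, xg_zero, one_mul, mul_one, one_pow, add_zero]
  have e1 : ((c : K) - 1) * ((C : K) - 1) + ((c : K) - 1) = (c : K) * C - C := by ring
  have e2 : ((c : K) - 1) * ((C : K) - 1) ^ 2 + ((c : K) - 1) * (2 * (C : K) - 1) =
      (c : K) * (C : K) ^ 2 - (C : K) ^ 2 := by ring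
  rw [e1, e2, ← h]
  simp only [mul_assoc]

/-- the key step: `α(τ,0,0)⁻¹ α(cτ,0,0) = α((c-1)τ, u₁, v₁)` -/
theorem key_step (c τ : Kˣ) :
    ∃ u₁ v₁ : K, (al e (τ : K) 0 0)⁻¹ * al e ((c : K) * τ) 0 0 = al e (((c : K) - 1) * τ) u₁ v₁ := by
  obtain ⟨k, hk⟩ := FD.odd
  set p : Kˣ := τ ^ (k + 1) with hp
  set q : Kˣ := τ ^ e * τ ^ (k + 1) with hq
  have ht0 : (τ : K) ≠ 0 := τ.ne_zero
  set T : K := (τ : K) ^ e with hT
  have hT0 : T ≠ 0 := pow_ne_zero _ ht0
  have hTk : T = (τ : K) ^ (2 * k + 1) := by rw [hT, hk]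
  -- the character values of `d = Hh p q`
  have x6 : chi p q 6 = τ := by
    simp only [chi, hp, hq, Units.val_mul, Units.val_pow_eq_pow_val, ← hT]
    rw [hTk]; field_simp; ring
  have x7 : chi p q 7 = T := by
    simp only [chi, hp, hq, Units.val_mul, Units.val_pow_eq_pow_val, ← hT]
    field_simp
  have x8 : chi p q 8 = τ * T := by
    simp only [chi, hp, Units.val_pow_eq_pow_val]
    rw [hTk]; ring
  have x9 : chi p q 9 = τ * T ^ 2 := by
    simp only [chi, hp, hq, Units.val_mul, Units.val_pow_eq_pow_val, ← hT]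
    rw [hTk]; ring
  have x10 : chi p q 10 = τ * T ^ 3 := by
    simp only [chi, hq, Units.val_mul, Units.val_pow_eq_pow_val, ← hT]
    rw [hTk]; ring
  have x11 : chi p q 11 = τ ^ 2 * T ^ 3 := by
    simp only [chi, hp, hq, Units.val_mul, Units.val_pow_eq_pow_val, ← hT]
    rw [hTk]; ring
  set C : Kˣ := c ^ e with hC
  have hCv : (C : K) = (c : K) ^ e := by rw [hC, Units.val_pow_eq_pow_val]
  -- step 1, 2
  have s1 : MulAut.conj (Hh p q) (Ap (1 : K) 1 0 0 0 0) = al e (τ : K) 0 0 := by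
    rw [conj_Ap, x6, x7, al, zero_pow FD.epos]
    simp only [mul_one, mul_zero, ← hT]
  have s2 : MulAut.conj (Hh p q) (Ap (c : K) (C : K) 0 0 0 0) = al e ((c : K) * τ) 0 0 := by
    rw [conj_Ap, x6, x7, al, zero_pow FD.epos, mul_pow, ← hCv, ← hT]
    simp only [mul_zero]
    rw [mul_comm (τ : K), mul_comm T]
  refine ⟨chi p q 10 * ((C : K) ^ 3 - 1),
    chi p q 11 * (-2 - (C : K) ^ 3 + c + 2 * c * (C : K) ^ 3), ?_⟩
  rw [← s1, ← s2, ← map_inv, ← map_mul, coll_Ap, conj_Ap, al, x6, x7, x8, x9, x10, x11]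
  -- Frobenius computations
  have f1 : (((c : K) - 1) * τ) ^ e = T * ((C : K) - 1) := by
    rw [mul_pow, ← hT, hCv]
    have : ((c : K) - 1) ^ e = (c : K) ^ e - 1 := by
      have := map_sub FD.phi (c : K) 1
      simpa [FieldData.phi_apply] using this
    rw [this]; ring
  have hTT : (T ^ e) ^ 3 = τ := FD.cube (τ : K)
  have hCC : ((C : K) ^ e) ^ 3 = c := by rw [hCv]; exact FD.cube (c : K)
  have h2e : (2 : K) ^ e = 2 := by
    have := map_ofNat FD.phi 2
    simpa [FieldData.phi_apply] using this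
  have pc : ∀ (x : K) (n : ℕ), (x ^ n) ^ e = (x ^ e) ^ n := by
    intro x n; rw [← pow_mul, mul_comm, pow_mul]
  have f2 : ((τ : K) * T ^ 3 * ((C : K) ^ 3 - 1)) ^ e = τ * T * ((c : K) - 1) := by
    have h1 : ((C : K) ^ 3 - 1) ^ e = ((C : K) ^ e) ^ 3 - 1 := by
      have := map_sub FD.phi ((C : K) ^ 3) 1
      simp only [FieldData.phi_apply, one_pow] at this
      rw [this, pc]
    rw [mul_pow, mul_pow, h1, hCC, pc T 3, hTT, ← hT]
    ring
  have f3 : ((τ : K) ^ 2 * T ^ 3 * (-2 - (C : K) ^ 3 + c + 2 * c * (C : K) ^ 3)) ^ e =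
      τ * T ^ 2 * (((c : K) - 1) * (2 * (C : K) - 1)) := by
    have h1 : (-2 - (C : K) ^ 3 + c + 2 * c * (C : K) ^ 3) ^ e =
        -2 - ((C : K) ^ e) ^ 3 + (c : K) ^ e + 2 * (c : K) ^ e * ((C : K) ^ e) ^ 3 := by
      have : FD.phi (-2 - (C : K) ^ 3 + c + 2 * c * (C : K) ^ 3) =
          -2 - (FD.phi (C : K)) ^ 3 + FD.phi c + 2 * FD.phi c * (FD.phi (C : K)) ^ 3 := by
        simp only [map_add, map_sub, map_neg, map_mul, map_pow, map_ofNat]
      simpa only [FieldData.phi_apply] using this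
    have h3 := FD.h3
    rw [mul_pow, mul_pow, h1, hCC, ← hCv, pc (τ : K) 2, pc T 3, hTT, ← hT]
    linear_combination ((τ : K) * T ^ 2 * ((C : K) - 1)) * h3
  rw [f1, f2, f3]
  congr 1 <;> ring


/-! ### All Ree elements lie in the commutator subgroup -/

theorem al_mem_comm (l : Kˣ) (h6 : chi (l ^ e) l 6 ≠ 1) (h10 : chi (l ^ e) l 10 ≠ 1)
    (h11 : chi (l ^ e) l 11 ≠ 1) (t u v : K) :
    al e t u v ∈ ⁅twistedG2 K e, twistedG2 K e⁆ := by
  by_cases ht : t = 0
  · subst ht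
    exact FD.al_zero_mem l h10 h11 u v
  -- `c` as a unit
  set cU : Kˣ := (l ^ e) ^ 3 * l⁻¹ with hcU
  have hcv : (cU : K) = chi (l ^ e) l 6 := by
    simp [hcU, chi]
  have hc1 : (cU : K) - 1 ≠ 0 := by rw [hcv]; exact sub_ne_zero.mpr h6
  have hτ0 : t / ((cU : K) - 1) ≠ 0 := div_ne_zero ht hc1
  set τ : Kˣ := Units.mk0 _ hτ0 with hτ
  have hτv : (τ : K) = t / ((cU : K) - 1) := rfl
  obtain ⟨u₁, v₁, hkey⟩ := FD.key_step cU τ
  have ht' : ((cU : K) - 1) * τ = t := by rw [hτv]; field_simp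
  rw [ht'] at hkey
  -- the left side is a commutator
  have hconj : hl (e := e) l * al e (τ : K) 0 0 * (hl (e := e) l)⁻¹ = al e ((cU : K) * τ) 0 0 := by
    have := FD.conj_hl_al l (τ : K) 0 0
    rw [MulAut.conj_apply, mul_zero, mul_zero, ← hcv] at this
    exact this
  have hmem : (al e (τ : K) 0 0)⁻¹ * al e ((cU : K) * τ) 0 0 ∈
      ⁅twistedG2 K e, twistedG2 K e⁆ := by
    have := comm_mem' (inv_mem (al_mem (e := e) (τ : K) 0 0)) (FD.hl_mem l)
    rw [inv_inv] at this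
    rw [← hconj]
    have e1 : (al e (τ : K) 0 0)⁻¹ * (hl (e := e) l * al e (τ : K) 0 0 * (hl (e := e) l)⁻¹) =
        (al e (τ : K) 0 0)⁻¹ * hl (e := e) l * al e (τ : K) 0 0 * (hl (e := e) l)⁻¹ := by
      group
    rw [e1]
    exact this
  rw [hkey] at hmem
  rw [FD.al_decomp t u v u₁ v₁]
  exact mul_mem hmem (FD.al_zero_mem l h10 h11 _ _)

/-! ### The symmetry `J` -/

omit FD in
theorem J_conj_mem (g : GL chevG2.Idx K) (hg : g ∈ twistedG2 K e) :
    MulAut.conj (Jg : GL chevG2.Idx K) g ∈ twistedG2 K e := by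
  have key : twistedG2 K e ≤ (twistedG2 K e).comap (MulAut.conj (Jg : GL chevG2.Idx K)).toMonoidHom := by
    unfold twistedG2 ChevalleyDatum.genSubgroup
    rw [Subgroup.closure_le]
    rintro g ⟨w, hw, hgw⟩
    have hg' : g = wordG w := Units.ext (by rw [hgw, wordG_val])
    obtain ⟨t, u, v, rfl | rfl⟩ := hw
    · show MulAut.conj Jg g ∈ Subgroup.closure _
      rw [hg', J_conj_word _ (reeWordU_lt e t u v)]
      exact wordV_mem t u v
    · show MulAut.conj Jg g ∈ Subgroup.closure _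
      rw [hg']
      unfold reeWordV
      rw [J_conj_word _ (negWord_lt _ (reeWordU_lt e t u v)),
        negWord_negWord _ (reeWordU_lt e t u v)]
      exact wordU_mem t u v
  exact key hg

omit FD in
theorem J_conj_mem_comm (g : GL chevG2.Idx K) (hg : g ∈ ⁅twistedG2 K e, twistedG2 K e⁆) :
    MulAut.conj (Jg : GL chevG2.Idx K) g ∈ ⁅twistedG2 K e, twistedG2 K e⁆ := by
  have h1 : (twistedG2 K e).map (MulAut.conj (Jg : GL chevG2.Idx K)).toMonoidHom ≤ twistedG2 K e := by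
    rintro x ⟨y, hy, rfl⟩
    exact J_conj_mem y hy
  have h2 : (⁅twistedG2 K e, twistedG2 K e⁆).map (MulAut.conj (Jg : GL chevG2.Idx K)).toMonoidHom ≤
      ⁅twistedG2 K e, twistedG2 K e⁆ := by
    rw [Subgroup.map_commutator]
    exact Subgroup.commutator_mono h1 h1
  exact h2 ⟨g, hg, rfl⟩

/-- the abstract perfectness statement -/
theorem perfect (l : Kˣ) (h6 : chi (l ^ e) l 6 ≠ 1) (h10 : chi (l ^ e) l 10 ≠ 1)
    (h11 : chi (l ^ e) l 11 ≠ 1) :
    ⁅twistedG2 K e, twistedG2 K e⁆ = twistedG2 K e := by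
  apply le_antisymm (Subgroup.commutator_le.mpr fun a ha b hb =>
    mul_mem (mul_mem (mul_mem ha hb) (inv_mem ha)) (inv_mem hb))
  have hU : ∀ t u v : K, wordG (reeWordU e t u v) ∈ ⁅twistedG2 K e, twistedG2 K e⁆ := by
    intro t u v
    rw [wordG_reeWordU]
    exact FD.al_mem_comm l h6 h10 h11 t u v
  conv_lhs => unfold twistedG2 ChevalleyDatum.genSubgroup
  rw [Subgroup.closure_le]
  rintro g ⟨w, hw, hgw⟩
  have hg' : g = wordG w := Units.ext (by rw [hgw, wordG_val])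
  obtain ⟨t, u, v, rfl | rfl⟩ := hw
  · rw [hg']; exact hU t u v
  · rw [hg']
    unfold reeWordV
    rw [← J_conj_word _ (reeWordU_lt e t u v)]
    exact J_conj_mem_comm _ (hU t u v)

end FieldData

/-! ### The finite field -/

theorem fieldData_of_card [Fintype K] {m : ℕ} (hK : Fintype.card K = 3 ^ (2 * m + 1)) :
    FieldData K (3 ^ m) := by
  haveI : Fact (Nat.Prime 3) := ⟨by norm_num⟩
  haveI : CharP K 3 := charP_of_card_eq_prime_pow hK
  refine ⟨?_, ?_, ?_, ?_⟩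
  · have := CharP.cast_eq_zero K 3
    exact_mod_cast this
  · intro x y
    exact add_pow_char_pow x y 3 m
  · intro x
    rw [← pow_mul, ← pow_mul]
    have : 3 ^ m * (3 ^ m * 3) = Fintype.card K := by
      rw [hK]; ring
    rw [this, FiniteField.pow_card]
  · exact Odd.pow (by decide)

theorem exists_gen [Fintype K] {m : ℕ} (hK : Fintype.card K = 3 ^ (2 * m + 1)) (hm : 1 ≤ m) :
    ∃ l : Kˣ, chi (l ^ 3 ^ m) l 6 ≠ 1 ∧ chi (l ^ 3 ^ m) l 10 ≠ 1 ∧ chi (l ^ 3 ^ m) l 11 ≠ 1 := by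
  classical
  obtain ⟨l, hl⟩ := IsCyclic.exists_generator (α := Kˣ)
  have hord : orderOf l = 3 ^ (2 * m + 1) - 1 := by
    rw [orderOf_eq_card_of_forall_mem_zpowers hl, Nat.card_eq_fintype_card, Fintype.card_units, hK]
  set e := 3 ^ m with he
  have he3 : 3 ≤ e := by
    calc 3 = 3 ^ 1 := by norm_num
      _ ≤ 3 ^ m := Nat.pow_le_pow_right (by norm_num) hm
  have hq : 3 ^ (2 * m + 1) = 3 * e * e := by rw [he]; ring
  have h9 : 9 * e ≤ 3 * e * e := by nlinarith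
  have hne : ∀ n : ℕ, n ≠ 0 → n + 2 ≤ 9 * e → l ^ n ≠ 1 := by
    intro n hn0 hn
    apply pow_ne_one_of_lt_orderOf hn0
    rw [hord, hq]; omega
  refine ⟨l, ?_, ?_, ?_⟩
  · -- l^(3e-1) ≠ 1
    have h := hne (3 * e - 1) (by omega) (by omega)
    intro hc
    apply h
    have hc' : ((l ^ e) ^ 3 * l⁻¹ : Kˣ) = 1 := by
      apply Units.ext
      simpa [chi] using hc
    have : l ^ (3 * e - 1) * l = (l ^ e) ^ 3 := by
      rw [← pow_succ, ← pow_mul, mul_comm e 3]
      congr 1; omega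
    have h2 : l ^ (3 * e - 1) = (l ^ e) ^ 3 * l⁻¹ := by
      rw [← this]; group
    rw [h2, hc']
  · have h := hne 2 (by norm_num) (by omega)
    intro hc
    apply h
    apply Units.ext
    simpa [chi] using hc
  · have h := hne (3 * e + 1) (by omega) (by omega)
    intro hc
    apply h
    have hc' : ((l ^ e) ^ 3 * l : Kˣ) = 1 := by
      apply Units.ext
      simpa [chi] using hc
    rw [pow_succ, mul_comm 3 e, pow_mul, hc']

/-- `²G₂(3^(2m+1))`, `m ≥ 1`, is perfect. -/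
theorem twistedG2_perfect [Fintype K] {m : ℕ} (hK : Fintype.card K = 3 ^ (2 * m + 1)) (hm : 1 ≤ m) :
    commutator ↥(twistedG2 K (3 ^ m)) = ⊤ := by
  obtain ⟨l, h6, h10, h11⟩ := exists_gen hK hm
  have h := (fieldData_of_card hK).perfect l h6 h10 h11
  exact (Group.isPerfect_def).mp ((Subgroup.isPerfect_iff).mpr h)

end Cfsg.Agent.Helper15.Ree
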