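import Cfsg.Agent.Lib.Helper15.Ree.Perfect
import Cfsg.Agent.Lib.Helper15.Ree.Checks2
import Cfsg.Agent.Lib.Helper6.G2Char3B

/-!
# The σ-invariant of `²G₂` (for S1101)

In characteristic 3 the adjoint module of `G₂` has the 7-dimensional ideal `I` of the short roots
(`Helper6.G2C3`).  For `g` in the Ree group the block of `g` on `I` is the `θ`-twist of the block of `g` on
`L/I`.
-/

set_option autoImplicit false
set_option linter.unusedSectionVars false

namespace Cfsg.Agent.Helper15.Ree

open Cfsg.Lie Cfsg.Agent.Helper18 Cfsg.Agent.Helper6 Cfsg.Agent.Helper6.BlockHom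

variable {K : Type*} [Field K]

/-- entrywise field homomorphisms act on the root elements through the parameter -/
theorem xMat_map15 {D : ChevalleyDatum} {L : Type*} [Field L] (f : K →+* L) (r : Fin D.nroots) (t : K) :
    (D.xMat K r t).map f = D.xMat L r (f t) := by
  ext row col
  rw [Matrix.map_apply]
  rcases col with i | s
  · rcases row with i' | u
    · simp only [ChevalleyDatum.xMat, Matrix.of_apply]
      split_ifs <;> simp
    · simp only [ChevalleyDatum.xMat, Matrix.of_apply]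
      split_ifs <;> simp
  · rcases row with i' | u
    · simp only [ChevalleyDatum.xMat, Matrix.of_apply]
      split_ifs <;> simp
    · simp only [ChevalleyDatum.xMat, Matrix.of_apply]
      split_ifs <;> simp [map_list_sum, List.map_map, Function.comp_def]

theorem x_lt (r : ℕ) (hr : r < 12) (t : K) : chevG2.x K r t = chevG2.xMat K ⟨r, hr⟩ t := by
  rw [ChevalleyDatum.x, dif_pos (show r < chevG2.nroots from hr)]

theorem x_map15 (f : K →+* K) (r : ℕ) (t : K) : (chevG2.x K r t).map f = chevG2.x K r (f t) := by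
  by_cases hr : r < 12
  · rw [x_lt r hr, x_lt r hr, xMat_map15]
  · have hr' : ¬ r < chevG2.nroots := hr
    simp only [ChevalleyDatum.x, dif_neg hr']
    ext i j
    by_cases h : i = j
    · subst h; simp
    · simp [Matrix.one_apply_ne h]

theorem wordMat_cons15 (p : ℕ × K) (w : List (ℕ × K)) :
    chevG2.wordMat K (p :: w) = chevG2.x K p.1 p.2 * chevG2.wordMat K w := by
  simp [ChevalleyDatum.wordMat]

theorem wordMat_nil15 : chevG2.wordMat K [] = 1 := by
  simp [ChevalleyDatum.wordMat]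

section blocks

variable [CharP K 3]

/-- the block on the ideal -/
noncomputable def B11 (M : Matrix chevG2.Idx chevG2.Idx K) : Matrix (Fin 7) (Fin 7) K := b11 G2C3.eIdx M
/-- the lower left block -/
noncomputable def B21 (M : Matrix chevG2.Idx chevG2.Idx K) : Matrix (Fin 7) (Fin 7) K := b21 G2C3.eIdx M
/-- the block on the quotient -/
noncomputable def B22 (M : Matrix chevG2.Idx chevG2.Idx K) : Matrix (Fin 7) (Fin 7) K := b22 G2C3.eIdx M

theorem B11_mul (M N : Matrix chevG2.Idx chevG2.Idx K) (hN : B21 N = 0) : B11 (M * N) = B11 M * B11 N :=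
  b11_mul _ M N hN
theorem B22_mul (M N : Matrix chevG2.Idx chevG2.Idx K) (hM : B21 M = 0) : B22 (M * N) = B22 M * B22 N :=
  b22_mul _ M N hM
theorem B21_mul (M N : Matrix chevG2.Idx chevG2.Idx K) (hM : B21 M = 0) (hN : B21 N = 0) :
    B21 (M * N) = 0 := b21_mul _ M N hM hN
theorem B11_one : B11 (1 : Matrix chevG2.Idx chevG2.Idx K) = 1 := b11_one _
theorem B22_one : B22 (1 : Matrix chevG2.Idx chevG2.Idx K) = 1 := b22_one _
theorem B21_one : B21 (1 : Matrix chevG2.Idx chevG2.Idx K) = 0 := b21_one _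

theorem B11_map (f : K →+* K) (M : Matrix chevG2.Idx chevG2.Idx K) : B11 (M.map f) = (B11 M).map f := rfl
theorem B22_map (f : K →+* K) (M : Matrix chevG2.Idx chevG2.Idx K) : B22 (M.map f) = (B22 M).map f := rfl

theorem B21_x (r : ℕ) (t : K) : B21 (chevG2.x K r t) = 0 := by
  by_cases hr : r < 12
  · rw [x_lt r hr]; exact (G2C3.blk_x ⟨r, hr⟩ t).1
  · have hr' : ¬ r < chevG2.nroots := hr
    rw [ChevalleyDatum.x, dif_neg hr']; exact B21_one

theorem B22_x (r : ℕ) (hr : r < 12) (t : K) :
    B22 (chevG2.x K r t) =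
      B11 (chevG2.x K (G2C3.sig r) (if G2C3.isShort r then t ^ 3 else t)) := by
  rw [x_lt r hr, x_lt (G2C3.sig r) (G2C3.sig_lt ⟨r, hr⟩)]
  exact (G2C3.blk_x ⟨r, hr⟩ t).2

theorem B21_wordMat (w : List (ℕ × K)) : B21 (chevG2.wordMat K w) = 0 := by
  induction w with
  | nil => rw [wordMat_nil15]; exact B21_one
  | cons p w ih => rw [wordMat_cons15]; exact B21_mul _ _ (B21_x p.1 p.2) ih

/-- the σ-twist of a word -/
def twistWord (f : K →+* K) (w : List (ℕ × K)) : List (ℕ × K) :=
  w.map fun p => (G2C3.sig p.1, f (if G2C3.isShort p.1 then p.2 ^ 3 else p.2))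

theorem twist_lemma (f : K →+* K) (w : List (ℕ × K)) (hw : ∀ p ∈ w, p.1 < 12) :
    (B22 (chevG2.wordMat K w)).map f = B11 (chevG2.wordMat K (twistWord f w)) := by
  induction w with
  | nil =>
    simp only [twistWord, List.map_nil, wordMat_nil15, B22_one, B11_one]
    ext i j
    by_cases h : i = j
    · subst h; simp
    · simp [Matrix.one_apply_ne h]
  | cons p w ih =>
    have h1 : twistWord f (p :: w) =
        (G2C3.sig p.1, f (if G2C3.isShort p.1 then p.2 ^ 3 else p.2)) :: twistWord f w := rfl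
    rw [h1, wordMat_cons15, wordMat_cons15, B22_mul _ _ (B21_x _ _), B11_mul _ _ (B21_wordMat _),
      Matrix.map_mul, ih fun q hq => hw q (List.mem_cons_of_mem _ hq),
      B22_x p.1 (hw p List.mem_cons_self), ← B11_map, x_map15]


/-! ### The subgroup of the σ-invariant elements -/

theorem map_one15 (f : K →+* K) : (1 : Matrix (Fin 7) (Fin 7) K).map f = 1 := by
  ext i j
  by_cases h : i = j
  · subst h; simp
  · simp [Matrix.one_apply_ne h]

/-- the condition on an invertible matrix -/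
def SigP (f : K →+* K) (g : GL chevG2.Idx K) : Prop :=
  B21 (g : Matrix chevG2.Idx chevG2.Idx K) = 0 ∧
    B21 ((g⁻¹ : GL chevG2.Idx K) : Matrix chevG2.Idx chevG2.Idx K) = 0 ∧
    B11 (g : Matrix chevG2.Idx chevG2.Idx K) = (B22 (g : Matrix chevG2.Idx chevG2.Idx K)).map f

theorem SigP.inv {f : K →+* K} {g : GL chevG2.Idx K} (h : SigP f g) : SigP f g⁻¹ := by
  obtain ⟨h1, h2, h3⟩ := h
  refine ⟨h2, by rwa [inv_inv], ?_⟩
  have e1 : B11 ((g⁻¹ : GL chevG2.Idx K) : Matrix chevG2.Idx chevG2.Idx K) *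
      B11 (g : Matrix chevG2.Idx chevG2.Idx K) = 1 := by
    rw [← B11_mul _ _ h1, ← Units.val_mul, inv_mul_cancel, Units.val_one, B11_one]
  have e2 : (B22 ((g⁻¹ : GL chevG2.Idx K) : Matrix chevG2.Idx chevG2.Idx K)).map f *
      B11 (g : Matrix chevG2.Idx chevG2.Idx K) = 1 := by
    rw [h3, ← Matrix.map_mul, ← B22_mul _ _ h2, ← Units.val_mul, inv_mul_cancel, Units.val_one,
      B22_one, map_one15]
  have e3 : B11 (g : Matrix chevG2.Idx chevG2.Idx K) *
      (B22 ((g⁻¹ : GL chevG2.Idx K) : Matrix chevG2.Idx chevG2.Idx K)).map f = 1 :=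
    mul_eq_one_comm.mp e2
  calc B11 ((g⁻¹ : GL chevG2.Idx K) : Matrix chevG2.Idx chevG2.Idx K)
      = B11 ((g⁻¹ : GL chevG2.Idx K) : Matrix chevG2.Idx chevG2.Idx K) *
          (B11 (g : Matrix chevG2.Idx chevG2.Idx K) *
            (B22 ((g⁻¹ : GL chevG2.Idx K) : Matrix chevG2.Idx chevG2.Idx K)).map f) := by
        rw [e3, mul_one]
    _ = _ := by rw [← mul_assoc, e1, one_mul]

theorem SigP.mul {f : K →+* K} {g h : GL chevG2.Idx K} (hg : SigP f g) (hh : SigP f h) :
    SigP f (g * h) := by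
  obtain ⟨g1, g2, g3⟩ := hg
  obtain ⟨h1, h2, h3⟩ := hh
  refine ⟨?_, ?_, ?_⟩
  · rw [Units.val_mul]; exact B21_mul _ _ g1 h1
  · rw [mul_inv_rev, Units.val_mul]; exact B21_mul _ _ h2 g2
  · rw [Units.val_mul, B11_mul _ _ h1, B22_mul _ _ g1, Matrix.map_mul, g3, h3]

theorem SigP.one (f : K →+* K) : SigP f (1 : GL chevG2.Idx K) := by
  refine ⟨?_, ?_, ?_⟩
  · rw [Units.val_one]; exact B21_one
  · rw [inv_one, Units.val_one]; exact B21_one
  · rw [Units.val_one, B11_one, B22_one, map_one15]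

/-- the subgroup of the σ-invariant elements -/
def SigInv (f : K →+* K) : Subgroup (GL chevG2.Idx K) where
  carrier := {g | SigP f g}
  mul_mem' := fun hg hh => SigP.mul hg hh
  one_mem' := SigP.one f
  inv_mem' := fun hg => SigP.inv hg

theorem B21_wordG_inv (w : List (ℕ × K)) :
    B21 (((wordG w)⁻¹ : GL chevG2.Idx K) : Matrix chevG2.Idx chevG2.Idx K) = 0 := by
  induction w with
  | nil => rw [wordG_nil, inv_one, Units.val_one]; exact B21_one
  | cons p w ih =>
    rw [wordG_cons, mul_inv_rev, Units.val_mul, xg_inv, xg_val]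
    exact B21_mul _ _ ih (B21_x _ _)

/-- a word fixed by the twist gives a σ-invariant element -/
theorem sigP_of_word_eq (f : K →+* K) (w : List (ℕ × K)) (hw : ∀ p ∈ w, p.1 < 12)
    (h : wordG w = wordG (twistWord f w)) : SigP f (wordG w) := by
  refine ⟨?_, B21_wordG_inv w, ?_⟩
  · rw [wordG_val]; exact B21_wordMat w
  · rw [wordG_val, twist_lemma f w hw, ← wordG_val, ← wordG_val, ← h]

end blocks

end Cfsg.Agent.Helper15.Ree
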