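import Cfsg.Agent.Lib.Helper15.Ree.Sigma

/-!
# The generators of `²G₂` are σ-invariant (for S1101)
-/

set_option autoImplicit false
set_option linter.unusedSectionVars false

namespace Cfsg.Agent.Helper15.Ree

open Cfsg.Lie Cfsg.Agent.Helper18 Cfsg.Agent.Helper6 Cfsg.Agent.Helper6.BlockHom

variable {K : Type*} [Field K]

/-- the commutator formula for the fundamental roots in characteristic 3 -/
theorem I1 (h3 : (3 : K) = 0) (A B : K) :
    xg 7 A * xg 6 B = xg 6 B * xg 7 A * U2 (-(A * B)) (-(A ^ 2 * B)) (A ^ 3 * B) (A ^ 3 * B ^ 2) := by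
  by_cases hA : A = 0
  · subst hA; simp [xg_zero, U2]
  by_cases hB : B = 0
  · subst hB; simp [xg_zero, U2]
  have h := wordG_eq_of_check (Units.mk0 A hA) (Units.mk0 B hB) _ _ chk_I1
  simp [evalWord, va, vb, LP.eval, LP.evalMono, wordG] at h
  have e2 : -(2 * (A ^ 3 * B ^ 2)) = A ^ 3 * B ^ 2 := by
    linear_combination (-(A ^ 3 * B ^ 2)) * h3
  rw [e2] at h
  rw [h]
  unfold U2
  simp only [mul_assoc]

theorem U2_perm (a b c d : K) : xg 10 c * xg 11 d * xg 8 a * xg 9 b = U2 a b c d := by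
  unfold U2
  simp only [mul_assoc]
  rw [lc 8 11 comm_8_11, lc 8 10 comm_8_10, ← comm_9_11, lc 9 10 comm_9_10]

theorem sig_vals : G2C3.sig 7 = 6 ∧ G2C3.sig 6 = 7 ∧ G2C3.sig 8 = 10 ∧ G2C3.sig 9 = 11 ∧
    G2C3.sig 10 = 8 ∧ G2C3.sig 11 = 9 := by decide

theorem short_vals : G2C3.isShort 7 = true ∧ G2C3.isShort 6 = false ∧ G2C3.isShort 8 = true ∧
    G2C3.isShort 9 = true ∧ G2C3.isShort 10 = false ∧ G2C3.isShort 11 = false := by decide

theorem sig_neg : ∀ r < 12, G2C3.sig (chevG2.neg r) = chevG2.neg (G2C3.sig r) := by decide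
theorem short_neg : ∀ r < 12, G2C3.isShort (chevG2.neg r) = G2C3.isShort r := by decide
theorem sig_lt12 : ∀ r < 12, G2C3.sig r < 12 := by decide

theorem twistWord_lt (f : K →+* K) (w : List (ℕ × K)) (hw : ∀ p ∈ w, p.1 < 12) :
    ∀ p ∈ twistWord f w, p.1 < 12 := by
  intro p hp
  simp only [twistWord, List.mem_map] at hp
  obtain ⟨q, hq, rfl⟩ := hp
  exact sig_lt12 q.1 (hw q hq)

theorem twist_negWord (f : K →+* K) (w : List (ℕ × K)) (hw : ∀ p ∈ w, p.1 < 12) :
    twistWord f (chevG2.negWord w) = chevG2.negWord (twistWord f w) := by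
  induction w with
  | nil => simp [twistWord, ChevalleyDatum.negWord]
  | cons p w ih =>
    have h1 : ∀ (q : ℕ × K) (l : List (ℕ × K)),
        chevG2.negWord (q :: l) = (chevG2.neg q.1, -q.2) :: chevG2.negWord l := by
      intro q l; simp [ChevalleyDatum.negWord, ChevalleyDatum.neg]
    have h2 : ∀ (q : ℕ × K) (l : List (ℕ × K)), twistWord f (q :: l) =
        (G2C3.sig q.1, f (if G2C3.isShort q.1 then q.2 ^ 3 else q.2)) :: twistWord f l := by
      intro q l; rfl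
    have hp := hw p List.mem_cons_self
    rw [h1, h2, h2, h1, ih fun q hq => hw q (List.mem_cons_of_mem _ hq)]
    simp only [sig_neg p.1 hp, short_neg p.1 hp]
    congr 2
    split_ifs
    · rw [Odd.neg_pow (by decide), map_neg]
    · rw [map_neg]

namespace FieldData

variable {e : ℕ} (FD : FieldData K e)
include FD

theorem phi_pow3 (x : K) : FD.phi ((FD.phi x) ^ 3) = x := by
  rw [map_pow]
  exact FD.phi_cube x

theorem cube_add (x y : K) : (x + y) ^ 3 = x ^ 3 + y ^ 3 := by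
  have h3 := FD.h3
  have : (x + y) ^ 3 = x ^ 3 + y ^ 3 + 3 * (x ^ 2 * y + x * y ^ 2) := by ring
  rw [this, h3, zero_mul, add_zero]

theorem twist_reeWordU (t u v : K) :
    wordG (twistWord FD.phi (reeWordU e t u v)) =
      xg 6 t * xg 7 (t ^ e) * U2 (u ^ e) (v ^ e) ((t ^ e) ^ 3 * t + u) ((t ^ e) ^ 3 * t ^ 2 + v) := by
  obtain ⟨s7, s6, s8, s9, s10, s11⟩ := sig_vals
  obtain ⟨i7, i6, i8, i9, i10, i11⟩ := short_vals
  have c1 : FD.phi ((t ^ e) ^ 3) = t := FD.phi_pow3 t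
  have c4 : FD.phi ((u ^ e) ^ 3) = u := FD.phi_pow3 u
  have c6 : FD.phi ((v ^ e) ^ 3) = v := FD.phi_pow3 v
  have c2 : FD.phi ((t ^ (e + 1) + u ^ e) ^ 3) = (t ^ e) ^ 3 * t + u := by
    have e0 : t ^ (e + 1) = t * t ^ e := by ring
    rw [e0, FD.cube_add, map_add, mul_pow, map_mul, c1, c4, map_pow]
    rfl
  have c3 : FD.phi ((t ^ (2 * e + 1) + v ^ e) ^ 3) = (t ^ e) ^ 3 * t ^ 2 + v := by
    have e1 : t ^ (2 * e + 1) = t * (t ^ e) ^ 2 := by ring
    have e2 : ((t ^ e) ^ 2) ^ 3 = ((t ^ e) ^ 3) ^ 2 := by ring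
    have c5 : FD.phi (((t ^ e) ^ 2) ^ 3) = t ^ 2 := by rw [e2, map_pow, c1]
    rw [e1, FD.cube_add, map_add, mul_pow, map_mul, c5, c6, map_pow]
    rfl
  have hw : twistWord FD.phi (reeWordU e t u v) =
      [(6, t), (7, t ^ e), (10, (t ^ e) ^ 3 * t + u), (11, (t ^ e) ^ 3 * t ^ 2 + v), (8, u ^ e),
        (9, v ^ e)] := by
    simp only [twistWord, reeWordU, g2a, g2b, g2ab, g2aab, g2aaab, g2aaabb, List.map_cons,
      List.map_nil, s7, s6, s8, s9, s10, s11, i7, i6, i8, i9, i10, i11, if_true, c1, c2, c3]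
    simp [FieldData.phi_apply]
  rw [hw, ← U2_perm]
  simp [wordG, mul_assoc]

theorem word_eq_U (t u v : K) :
    wordG (reeWordU e t u v) = wordG (twistWord FD.phi (reeWordU e t u v)) := by
  rw [FD.twist_reeWordU, wordG_reeWordU, Ap_eq_U2, I1 FD.h3, mul_assoc _ (U2 _ _ _ _), U2_mul FD.h3]
  congr 2 <;> ring

theorem word_eq_V (t u v : K) :
    wordG (reeWordV e t u v) = wordG (twistWord FD.phi (reeWordV e t u v)) := by
  unfold reeWordV
  rw [twist_negWord _ _ (reeWordU_lt e t u v), ← J_conj_word _ (reeWordU_lt e t u v),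
    ← J_conj_word _ (twistWord_lt _ _ (reeWordU_lt e t u v)), ← FD.word_eq_U]

end FieldData

section

variable [CharP K 3] {e : ℕ} (FD : FieldData K e)
include FD

theorem twisted_le_sigInv : twistedG2 K e ≤ SigInv FD.phi := by
  unfold twistedG2 ChevalleyDatum.genSubgroup
  rw [Subgroup.closure_le]
  rintro g ⟨w, hw, hgw⟩
  have hg' : g = wordG w := Units.ext (by rw [hgw, wordG_val])
  obtain ⟨t, u, v, rfl | rfl⟩ := hw
  · rw [hg']
    exact sigP_of_word_eq _ _ (reeWordU_lt e t u v) (FD.word_eq_U t u v)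
  · rw [hg']
    exact sigP_of_word_eq _ _ (negWord_lt _ (reeWordU_lt e t u v)) (FD.word_eq_V t u v)

end

end Cfsg.Agent.Helper15.Ree
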