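import Mathlib

/-!
# Rank one Bruhat decomposition: the Sylow `p`-subgroups are TI (abstract core for S1155)
-/

set_option autoImplicit false

namespace Cfsg.Agent.Helper15.Ree

open scoped Pointwise

theorem sylow_TI_of_bruhat {G : Type*} [Group G] (G1 B U V : Subgroup G) [Finite G1] (n0 : G)
    (p : ℕ) [Fact p.Prime]
    (hdec : ∀ g ∈ G1, g ∈ B ∨ ∃ b ∈ B, ∃ u ∈ U, g = b * n0 * u)
    (hn0 : ∀ u ∈ U, n0 * u * n0⁻¹ ∈ V)
    (hUV : ∀ x ∈ U, x ∈ V → x = 1)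
    (hBU : ∀ b ∈ B, ∀ u ∈ U, b * u * b⁻¹ ∈ U)
    (hpU : IsPGroup p ↥(U.subgroupOf G1)) (hind : ¬ p ∣ (U.subgroupOf G1).index)
    (P Q : Sylow p ↥G1) (hPQ : P ≠ Q) : (P : Subgroup ↥G1) ⊓ (Q : Subgroup ↥G1) = ⊥ := by
  classical
  let P0 : Sylow p ↥G1 := hpU.toSylow hind
  have hP0 : ∀ x : ↥G1, x ∈ P0 ↔ (x : G) ∈ U := by
    intro x
    rw [IsPGroup.mem_toSylow, Subgroup.mem_subgroupOf]
  have hmem : ∀ (g x : ↥G1), x ∈ ((g • P0 : Sylow p ↥G1) : Subgroup ↥G1) ↔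
      ((g⁻¹ * x * g : ↥G1) : G) ∈ U := by
    intro g x
    rw [Sylow.coe_subgroup_smul, Subgroup.mem_pointwise_smul_iff_inv_smul_mem, MulAut.smul_def,
      MulAut.conj_inv_apply]
    exact hP0 _
  obtain ⟨g, rfl⟩ := MulAction.exists_smul_eq ↥G1 P0 P
  obtain ⟨g', rfl⟩ := MulAction.exists_smul_eq ↥G1 P0 Q
  rw [eq_bot_iff]
  intro x hx
  obtain ⟨hx1, hx2⟩ := Subgroup.mem_inf.mp hx
  have h1 := (hmem g x).mp hx1
  have h2 := (hmem g' x).mp hx2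
  obtain ⟨c, hc⟩ : ∃ c : ↥G1, c = g⁻¹ * g' := ⟨_, rfl⟩
  rcases hdec c c.2 with hcB | ⟨b, hb, u, hu, hcu⟩
  · exfalso
    apply hPQ
    have hcP : c • P0 = P0 := by
      apply Sylow.ext
      ext y
      rw [hmem c y]
      change _ ↔ y ∈ P0
      rw [hP0 y]
      constructor
      · intro h
        have h' := hBU c hcB _ h
        have e : (c : G) * ((c⁻¹ * y * c : ↥G1) : G) * (c : G)⁻¹ = (y : G) := by
          push_cast; group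
        rwa [e] at h'
      · intro h
        have h' := hBU (c : G)⁻¹ (B.inv_mem hcB) _ h
        have e : (c : G)⁻¹ * (y : G) * (c : G)⁻¹⁻¹ = ((c⁻¹ * y * c : ↥G1) : G) := by
          push_cast; group
        rwa [e] at h'
    calc g • P0 = g • (c • P0) := by rw [hcP]
      _ = g' • P0 := by rw [← mul_smul, hc, mul_inv_cancel_left]
  · rw [Subgroup.mem_bot]
    have e : ((g⁻¹ * x * g : ↥G1) : G) =
        (c : G) * ((g'⁻¹ * x * g' : ↥G1) : G) * (c : G)⁻¹ := by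
      rw [hc]; push_cast; group
    rw [hcu] at e
    obtain ⟨y, hy⟩ : ∃ y : G, y = ((g⁻¹ * x * g : ↥G1) : G) := ⟨_, rfl⟩
    obtain ⟨y', hy'⟩ : ∃ y' : G, y' = ((g'⁻¹ * x * g' : ↥G1) : G) := ⟨_, rfl⟩
    rw [← hy] at h1 e
    rw [← hy'] at h2 e
    have e2 : b⁻¹ * y * b⁻¹⁻¹ = n0 * (u * y' * u⁻¹) * n0⁻¹ := by rw [e]; group
    have m1 : b⁻¹ * y * b⁻¹⁻¹ ∈ U := hBU _ (B.inv_mem hb) _ h1
    have m2 : n0 * (u * y' * u⁻¹) * n0⁻¹ ∈ V :=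
      hn0 _ (U.mul_mem (U.mul_mem hu h2) (U.inv_mem hu))
    have h3 : b⁻¹ * y * b⁻¹⁻¹ = 1 := hUV _ m1 (e2 ▸ m2)
    have hy1 : y = 1 := by
      have e3 : y = b * (b⁻¹ * y * b⁻¹⁻¹) * b⁻¹ := by group
      rw [e3, h3]; group
    have hz : (g⁻¹ * x * g : ↥G1) = 1 := Subtype.ext (by rw [← hy, hy1]; rfl)
    have e4 : x = g * (g⁻¹ * x * g) * g⁻¹ := by group
    rw [e4, hz]; group

end Cfsg.Agent.Helper15.Ree
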