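import Cfsg.Agent.Lib.Helper15.Ree.BruhatG2
import Cfsg.Agent.Lib.Helper15.Ree.TICore
import Cfsg.Agent.S1069

/-!
# `²G₂`: distinct Sylow 3-subgroups meet trivially (S1155)
-/

set_option autoImplicit false
set_option linter.unusedSectionVars false
set_option linter.unusedVariables false

namespace Cfsg.Agent.Helper15.Ree

open Cfsg Cfsg.Lie Cfsg.Agent.Helper6.ReeS

theorem card_subgroupOf_inf {G : Type*} [Group G] (S Γ : Subgroup G) :
    Nat.card ↥(S.subgroupOf Γ) = Nat.card ↥(S ⊓ Γ) := by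
  rw [← Subgroup.inf_subgroupOf_right]
  exact Nat.card_congr (Subgroup.subgroupOfEquivOfLe inf_le_right).toEquiv

theorem twistedG2_sylow3_TI {K : Type*} [Field K] [Fintype K] {m : ℕ}
    (hK : Fintype.card K = 3 ^ (2 * m + 1))
    (P Q : Sylow 3 ↥(twistedG2 K (3 ^ m))) (hPQ : P ≠ Q) :
    (P : Subgroup ↥(twistedG2 K (3 ^ m))) ⊓ (Q : Subgroup ↥(twistedG2 K (3 ^ m))) = ⊥ := by
  haveI : Fact (Nat.Prime 3) := ⟨by norm_num⟩
  haveI : CharP K 3 := charP_of_card_eq_prime_pow hK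
  have FD := fieldData_of_card hK
  have hperf : ∀ x : K, ∃ y : K, y ^ 3 = x := fun x => ⟨(x ^ 3 ^ m) ^ 3 ^ m, FD.cube x⟩
  obtain ⟨α, hα⟩ := Cfsg.Agent.Helper6.G2C3.exists_graph_aut hperf
  have hcardU : Nat.card ↥((chevG2.posUnipotent K).subgroupOf (twistedG2 K (3 ^ m))) =
      3 ^ (3 * (2 * m + 1)) := by
    rw [card_subgroupOf_inf, card_U1 FD α hα, hK, ← pow_mul, mul_comm]
  refine sylow_TI_of_bruhat (twistedG2 K (3 ^ m)) (chevG2.borelSubgroup K)
    (chevG2.posUnipotent K) (chevG2.negUnipotent K) n0 3 ?_ ?_ ?_ ?_ ?_ ?_ P Q hPQ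
  · intro g hg
    rcases ree_dec FD α hα g hg with h | ⟨b, hb, u, hu, e⟩
    · exact Or.inl h
    · exact Or.inr ⟨b, hb.1, u, hu.1, e⟩
  · exact fun u hu => n0_conj_mem_neg FD α hα u hu
  · exact fun x hU hV => pos_neg_trivial x hU hV
  · exact fun b hb u hu => borel_conj_pos b hb u hu
  · exact IsPGroup.of_card hcardU
  · -- the index of `U¹`
    have h1 := Subgroup.card_mul_index ((chevG2.posUnipotent K).subgroupOf (twistedG2 K (3 ^ m)))
    rw [hcardU, Cfsg.Agent.S1069.result hK] at h1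
    obtain ⟨q, hq⟩ : ∃ q : ℕ, q = 3 ^ (2 * m + 1) := ⟨_, rfl⟩
    have hq3 : 3 ^ (3 * (2 * m + 1)) = q ^ 3 := by rw [hq, ← pow_mul, mul_comm]
    rw [← hq, hq3, mul_assoc] at h1
    have hqpos : 0 < q := by rw [hq]; positivity
    have h2 : ((chevG2.posUnipotent K).subgroupOf (twistedG2 K (3 ^ m))).index =
        (q - 1) * (q ^ 3 + 1) := Nat.eq_of_mul_eq_mul_left (by positivity) h1
    rw [h2]
    have hdq : 3 ∣ q := by rw [hq, pow_succ]; exact dvd_mul_left 3 _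
    have hdq3 : 3 ∣ q ^ 3 := dvd_pow hdq (by norm_num)
    intro hd
    rcases (Nat.Prime.dvd_mul (by norm_num : Nat.Prime 3)).mp hd with h | h
    · omega
    · omega

end Cfsg.Agent.Helper15.Ree
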