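import Mathlib

/-!
# Rank one Bruhat decomposition: the three point stabilisers (abstract core for S1153)
-/

set_option autoImplicit false

namespace Cfsg.Agent.Helper15.Ree

section

variable {Γ : Type*} [Group Γ] (B : Subgroup Γ)

theorem mem_stab_smul_base (g k : Γ) :
    k ∈ MulAction.stabilizer Γ (g • ((1 : Γ) : Γ ⧸ B)) ↔ g⁻¹ * k * g ∈ B := by
  rw [MulAction.mem_stabilizer_iff, ← inv_smul_eq_iff, smul_smul, smul_smul,
    ← MulAction.mem_stabilizer_iff, MulAction.stabilizer_quotient, mul_assoc]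

theorem mk_eq_smul_base (g : Γ) : ((g : Γ) : Γ ⧸ B) = g • ((1 : Γ) : Γ ⧸ B) := by
  rw [← QuotientGroup.mk_mul_of_mem (1 : Γ) (one_mem B)]
  simp [MulAction.Quotient.smul_mk]

theorem smul_base_eq_iff (g g' : Γ) :
    g • ((1 : Γ) : Γ ⧸ B) = g' • ((1 : Γ) : Γ ⧸ B) ↔ g⁻¹ * g' ∈ B := by
  rw [← mk_eq_smul_base, ← mk_eq_smul_base, QuotientGroup.eq]

theorem card_stab3_smul (g : Γ) (x y z : Γ ⧸ B) :
    Nat.card ↥(MulAction.stabilizer Γ (g • x) ⊓ MulAction.stabilizer Γ (g • y) ⊓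
      MulAction.stabilizer Γ (g • z)) =
    Nat.card ↥(MulAction.stabilizer Γ x ⊓ MulAction.stabilizer Γ y ⊓
      MulAction.stabilizer Γ z) := by
  have hinj : Function.Injective (MulAut.conj g).toMonoidHom := (MulAut.conj g).injective
  rw [MulAction.stabilizer_smul_eq_stabilizer_map_conj, MulAction.stabilizer_smul_eq_stabilizer_map_conj,
    MulAction.stabilizer_smul_eq_stabilizer_map_conj, ← Subgroup.map_inf_eq _ _ _ hinj,
    ← Subgroup.map_inf_eq _ _ _ hinj, Subgroup.card_map_of_injective hinj]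

variable (U H : Subgroup Γ) (n : Γ)

theorem stab3_eq
    (hHB : H ≤ B)
    (hB : ∀ b ∈ B, ∃ u ∈ U, ∃ h ∈ H, b = u * h)
    (hnH : ∀ h ∈ H, n⁻¹ * h * n ∈ H)
    (hHU : ∀ h ∈ H, ∀ u ∈ U, h * u * h⁻¹ ∈ U)
    (hopp : ∀ u ∈ U, n⁻¹ * u * n ∈ B → u = 1)
    (u : Γ) (hu : u ∈ U) :
    MulAction.stabilizer Γ ((1 : Γ) : Γ ⧸ B) ⊓ MulAction.stabilizer Γ (n • ((1 : Γ) : Γ ⧸ B)) ⊓
      MulAction.stabilizer Γ ((u * n) • ((1 : Γ) : Γ ⧸ B)) = H ⊓ Subgroup.centralizer {u} := by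
  -- an element `v * h` of `B` with `n⁻¹ (v h) n ∈ B` has `v = 1`
  have key : ∀ v ∈ U, ∀ h ∈ H, n⁻¹ * (v * h) * n ∈ B → v = 1 := by
    intro v hv h hh hm
    apply hopp v hv
    have e : n⁻¹ * v * n = (n⁻¹ * (v * h) * n) * (n⁻¹ * h * n)⁻¹ := by group
    rw [e]
    exact B.mul_mem hm (B.inv_mem (hHB (hnH h hh)))
  ext k
  rw [Subgroup.mem_inf, Subgroup.mem_inf, Subgroup.mem_inf, MulAction.stabilizer_quotient,
    mem_stab_smul_base, mem_stab_smul_base, Subgroup.mem_centralizer_singleton_iff]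
  constructor
  · rintro ⟨⟨h1, h2⟩, h3⟩
    obtain ⟨v, hv, h, hh, rfl⟩ := hB k h1
    have hv1 : v = 1 := key v hv h hh h2
    subst hv1
    rw [one_mul] at h3 ⊢
    refine ⟨hh, ?_⟩
    -- `u⁻¹ h u = (u⁻¹ (h u h⁻¹)) h`
    have hu' : u⁻¹ * (h * u * h⁻¹) ∈ U := U.mul_mem (U.inv_mem hu) (hHU h hh u hu)
    have e : (u * n)⁻¹ * h * (u * n) = n⁻¹ * (u⁻¹ * (h * u * h⁻¹) * h) * n := by group
    rw [e] at h3
    have h4 := key _ hu' h hh h3
    have h5 : h * u * h⁻¹ = u := by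
      have e5 : h * u * h⁻¹ = u * (u⁻¹ * (h * u * h⁻¹)) := by group
      rw [e5, h4, mul_one]
    calc h * u = (h * u * h⁻¹) * h := by group
      _ = u * h := by rw [h5]
  · rintro ⟨hk, hc⟩
    refine ⟨⟨hHB hk, hHB (hnH k hk)⟩, ?_⟩
    have e : (u * n)⁻¹ * k * (u * n) = n⁻¹ * (u⁻¹ * (k * u)) * n := by group
    rw [e, hc]
    have e2 : n⁻¹ * (u⁻¹ * (u * k)) * n = n⁻¹ * k * n := by group
    rw [e2]
    exact hHB (hnH k hk)

theorem three_point_stab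
    (hdec : ∀ g : Γ, g ∈ B ∨ ∃ u ∈ U, ∃ b ∈ B, g = u * n * b)
    (hUB : U ≤ B) (hHB : H ≤ B)
    (hB : ∀ b ∈ B, ∃ u ∈ U, ∃ h ∈ H, b = u * h)
    (hnH : ∀ h ∈ H, n⁻¹ * h * n ∈ H)
    (hHU : ∀ h ∈ H, ∀ u ∈ U, h * u * h⁻¹ ∈ U)
    (hopp : ∀ u ∈ U, n⁻¹ * u * n ∈ B → u = 1)
    (hnB : n ∉ B)
    (hcent : ∀ u ∈ U, u ≠ 1 → Nat.card ↥(H ⊓ Subgroup.centralizer {u}) ≤ 2)
    (hex : ∃ u ∈ U, u ≠ 1 ∧ Nat.card ↥(H ⊓ Subgroup.centralizer {u}) = 2) :
    (∀ x y z : Γ ⧸ B, x ≠ y → x ≠ z → y ≠ z →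
      Nat.card ↥(MulAction.stabilizer Γ x ⊓ MulAction.stabilizer Γ y ⊓
        MulAction.stabilizer Γ z) ≤ 2) ∧
    ∃ x y z : Γ ⧸ B, x ≠ y ∧ x ≠ z ∧ y ≠ z ∧
      Nat.card ↥(MulAction.stabilizer Γ x ⊓ MulAction.stabilizer Γ y ⊓
        MulAction.stabilizer Γ z) = 2 := by
  obtain ⟨x0, hx0⟩ : ∃ x0 : Γ ⧸ B, x0 = ((1 : Γ) : Γ ⧸ B) := ⟨_, rfl⟩
  -- points different from the base point
  have hpt : ∀ w : Γ ⧸ B, w ≠ x0 → ∃ u ∈ U, w = (u * n) • x0 := by
    intro w hw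
    induction w using QuotientGroup.induction_on with
    | H g =>
      rcases hdec g with hg | ⟨u, hu, b, hb, rfl⟩
      · exfalso
        apply hw
        rw [hx0, QuotientGroup.eq]
        exact B.mul_mem (B.inv_mem hg) (one_mem B)
      · refine ⟨u, hu, ?_⟩
        rw [hx0, ← mk_eq_smul_base, QuotientGroup.mk_mul_of_mem _ hb]
  have hUfix : ∀ u ∈ U, u • x0 = x0 := by
    intro u hu
    have := (smul_base_eq_iff B u 1).mpr (by simpa using B.inv_mem (hUB hu))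
    rwa [one_smul, ← hx0] at this
  constructor
  · intro x y z hxy hxz hyz
    -- move `x` to the base point
    obtain ⟨g1, hg1⟩ : ∃ g1 : Γ, x = g1 • x0 := by
      induction x using QuotientGroup.induction_on with
      | H g => exact ⟨g, by rw [hx0, ← mk_eq_smul_base]⟩
    have hy1 : g1⁻¹ • y ≠ x0 := by
      intro h
      apply hxy
      rw [hg1, ← h, smul_inv_smul]
    obtain ⟨u2, hu2, hy2⟩ := hpt _ hy1
    obtain ⟨g, hg⟩ : ∃ g : Γ, g = u2⁻¹ * g1⁻¹ := ⟨_, rfl⟩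
    have hgx : g • x = x0 := by
      rw [hg, hg1, mul_smul, inv_smul_smul, hUfix _ (U.inv_mem hu2)]
    have hgy : g • y = n • x0 := by
      rw [hg, mul_smul, hy2, mul_smul, inv_smul_smul]
    have hz1 : g • z ≠ x0 := by
      intro h
      apply hxz
      rw [← hgx] at h
      exact (smul_left_cancel g h).symm
    obtain ⟨u3, hu3, hz3⟩ := hpt _ hz1
    have hu31 : u3 ≠ 1 := by
      rintro rfl
      apply hyz
      rw [one_mul, ← hgy] at hz3
      exact (smul_left_cancel g hz3).symm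
    rw [← card_stab3_smul B g x y z, hgx, hgy, hz3, hx0,
      stab3_eq B U H n hHB hB hnH hHU hopp u3 hu3]
    exact hcent u3 hu3 hu31
  · obtain ⟨u, hu, hu1, hcard⟩ := hex
    refine ⟨x0, n • x0, (u * n) • x0, ?_, ?_, ?_, ?_⟩
    · intro h
      apply hnB
      have := (smul_base_eq_iff B 1 n).mp (by rw [one_smul, ← hx0]; exact h)
      simpa using this
    · intro h
      apply hnB
      have h1 := (smul_base_eq_iff B 1 (u * n)).mp (by rw [one_smul, ← hx0]; exact h)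
      have h2 : u * n ∈ B := by simpa using h1
      have e : n = u⁻¹ * (u * n) := by group
      rw [e]
      exact B.mul_mem (B.inv_mem (hUB hu)) h2
    · intro h
      apply hu1
      apply hopp u hu
      rw [hx0] at h
      have h1 := (smul_base_eq_iff B n (u * n)).mp h
      have e : n⁻¹ * u * n = n⁻¹ * (u * n) := by group
      rw [e]
      exact h1
    · rw [hx0, stab3_eq B U H n hHB hB hnH hHU hopp u hu]
      exact hcard

end

end Cfsg.Agent.Helper15.Ree
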