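import Cfsg.Agent.Lib.Helper15.Ree.ThreeCore
import Cfsg.Agent.Lib.Helper15.Ree.OddTorus2
import Cfsg.Agent.Lib.Helper15.Ree.Cube2

/-!
# `²G₂`: centralisers in `H¹` of the elements of `U¹` (for S1153)
-/

set_option autoImplicit false
set_option linter.unusedSectionVars false
set_option linter.unusedVariables false

namespace Cfsg.Agent.Helper15.Ree

open Cfsg Cfsg.Lie

/-- a finite group whose order divides `2N` (`N` odd) and which has no nontrivial element of odd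
order has order at most 2 -/
theorem card_le_two_of_no_odd {C : Type*} [Group C] [Finite C] (N : ℕ)
    (hN : Nat.card C ∣ 2 * N) (hNodd : Odd N)
    (hodd : ∀ x : C, Odd (orderOf x) → x = 1) : Nat.card C ≤ 2 := by
  rcases Nat.eq_two_pow_or_exists_odd_prime_and_dvd (Nat.card C) with ⟨k, hk⟩ | ⟨p, hp, hpd, hpo⟩
  · rw [hk] at hN ⊢
    by_contra hlt
    push Not at hlt
    have hk2 : 2 ≤ k := by
      by_contra h
      push Not at h
      interval_cases k <;> simp at hlt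
    obtain ⟨j, rfl⟩ : ∃ j, k = j + 2 := ⟨k - 2, by omega⟩
    have h4 : 4 ∣ 2 * N := Dvd.dvd.trans ⟨2 ^ j, by ring⟩ hN
    obtain ⟨c, hc⟩ := h4
    obtain ⟨d, hd⟩ := hNodd
    omega
  · exfalso
    haveI := Fact.mk hp
    obtain ⟨x, hx⟩ := exists_prime_orderOf_dvd_card' p hpd
    have hx1 : x = 1 := hodd x (by rw [hx]; exact hpo)
    rw [hx1, orderOf_one] at hx
    exact hp.one_lt.ne hx

/-- `q - 1 = 2 N` with `N` odd -/
theorem q_sub_one (m : ℕ) : ∃ N, Odd N ∧ 3 ^ (2 * m + 1) - 1 = 2 * N := by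
  have h : 3 ^ (2 * m + 1) % 4 = 3 := by
    rw [pow_succ, pow_mul, Nat.mul_mod, Nat.pow_mod]
    norm_num
  obtain ⟨q, hq⟩ : ∃ q, q = 3 ^ (2 * m + 1) := ⟨_, rfl⟩
  rw [← hq] at h ⊢
  refine ⟨(q - 1) / 2, ?_, ?_⟩
  · rw [Nat.odd_iff]; omega
  · omega

section

variable {K : Type*} [Field K] [CharP K 3] {e : ℕ} (FD : FieldData K e)
include FD

/-- the involution of `H¹` centralises `α(0,1,0)` -/
theorem invol_comm :
    Tt (-1 : Kˣ) (-1 : Kˣ) * wordG (reeWordU e (0 : K) 1 0) =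
      wordG (reeWordU e (0 : K) 1 0) * Tt (-1 : Kˣ) (-1 : Kˣ) := by
  have hconj : MulAut.conj (Tt (-1 : Kˣ) (-1 : Kˣ)) (wordG (reeWordU e (0 : K) 1 0)) =
      wordG (reeWordU e (0 : K) 1 0) := by
    rw [wordG_reeWordU, conj_Ap_T]
    simp only [chiT, Units.val_neg, Units.val_one, zero_pow FD.epos, one_pow, mul_zero]
    norm_num
  rw [MulAut.conj_apply] at hconj
  calc Tt (-1 : Kˣ) (-1 : Kˣ) * wordG (reeWordU e (0 : K) 1 0)
      = (Tt (-1 : Kˣ) (-1 : Kˣ) * wordG (reeWordU e (0 : K) 1 0) * (Tt (-1 : Kˣ) (-1 : Kˣ))⁻¹) *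
          Tt (-1 : Kˣ) (-1 : Kˣ) := by group
    _ = _ := by rw [hconj]

theorem invol_ne_one : Tt (-1 : Kˣ) (-1 : Kˣ) ≠ (1 : GL chevG2.Idx K) := by
  intro h
  have h1 : Phi e (-1 : Kˣ) = Tt (-1 : Kˣ) (-1 : Kˣ) := by
    unfold Phi
    congr 1
    · rw [FD.odd.neg_one_pow, Even.neg_one_pow (by decide : Even 2), one_mul]
    · rw [FD.odd.neg_one_pow, Odd.neg_one_pow (by decide : Odd 3),
        Even.neg_one_pow (by decide : Even 2), mul_one]
  have h2 : Phi e (-1 : Kˣ) = Phi e (1 : Kˣ) := by rw [h1, h, Phi_one]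
  have h3 : (-1 : Kˣ) = 1 := Phi_injective e h2
  have h4 : ((-1 : Kˣ) : K) = 1 := by rw [h3]; rfl
  have h5 : (2 : K) = 0 := by
    have : (-1 : K) = 1 := by simpa using h4
    linear_combination -this
  have h6 : (1 : K) = 0 := by linear_combination FD.h3 - h5
  exact one_ne_zero h6

end

/-- the centraliser in `H¹` of a nontrivial element of `U¹` has order at most 2, with equality for
`α(0,1,0)` -/
theorem cent_H1 {K : Type*} [Field K] [Fintype K] {m : ℕ} (hK : Fintype.card K = 3 ^ (2 * m + 1)) :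
    (∀ u ∈ (chevG2.posUnipotent K ⊓ twistedG2 K (3 ^ m)).subgroupOf (twistedG2 K (3 ^ m)), u ≠ 1 →
      Nat.card ↥((chevG2.diagonalSubgroup K ⊓ twistedG2 K (3 ^ m)).subgroupOf (twistedG2 K (3 ^ m)) ⊓
        Subgroup.centralizer {u}) ≤ 2) ∧
    ∃ u ∈ (chevG2.posUnipotent K ⊓ twistedG2 K (3 ^ m)).subgroupOf (twistedG2 K (3 ^ m)), u ≠ 1 ∧
      Nat.card ↥((chevG2.diagonalSubgroup K ⊓ twistedG2 K (3 ^ m)).subgroupOf (twistedG2 K (3 ^ m)) ⊓
        Subgroup.centralizer {u}) = 2 := by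
  classical
  haveI : Fact (Nat.Prime 3) := ⟨by norm_num⟩
  haveI : CharP K 3 := charP_of_card_eq_prime_pow hK
  have FD := fieldData_of_card hK
  have hcent : ∀ u ∈ (chevG2.posUnipotent K ⊓ twistedG2 K (3 ^ m)).subgroupOf (twistedG2 K (3 ^ m)),
      u ≠ 1 →
      Nat.card ↥((chevG2.diagonalSubgroup K ⊓ twistedG2 K (3 ^ m)).subgroupOf (twistedG2 K (3 ^ m)) ⊓
        Subgroup.centralizer {u}) ≤ 2 := by
    intro u hu hu1
    obtain ⟨N, hNodd, hN⟩ := q_sub_one m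
    apply card_le_two_of_no_odd N _ hNodd
    · intro x hxodd
      have hxH : (x : ↥(twistedG2 K (3 ^ m))) ∈ (chevG2.diagonalSubgroup K ⊓
          twistedG2 K (3 ^ m)).subgroupOf (twistedG2 K (3 ^ m)) := (Subgroup.mem_inf.mp x.2).1
      have hxC : (x : ↥(twistedG2 K (3 ^ m))) ∈ Subgroup.centralizer {u} :=
        (Subgroup.mem_inf.mp x.2).2
      by_contra hx1
      have hy1 : (((x : ↥(twistedG2 K (3 ^ m))) : ↥(twistedG2 K (3 ^ m))) : GL chevG2.Idx K) ≠ 1 := by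
        intro h
        apply hx1
        apply Subtype.ext
        apply Subtype.ext
        exact h
      have hyodd : Odd (orderOf (((x : ↥(twistedG2 K (3 ^ m))) : ↥(twistedG2 K (3 ^ m))) :
          GL chevG2.Idx K)) := by
        rw [Subgroup.orderOf_coe, Subgroup.orderOf_coe]
        exact hxodd
      have hbot := (twistedG2_odd_torus' hK).2 _ (Subgroup.mem_subgroupOf.mp hxH) hy1 hyodd
      have hmem : ((u : ↥(twistedG2 K (3 ^ m))) : GL chevG2.Idx K) ∈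
          (chevG2.posUnipotent K ⊓ twistedG2 K (3 ^ m)) ⊓
            Subgroup.centralizer {((x : ↥(twistedG2 K (3 ^ m))) : GL chevG2.Idx K)} := by
        refine Subgroup.mem_inf.mpr ⟨Subgroup.mem_subgroupOf.mp hu, ?_⟩
        rw [Subgroup.mem_centralizer_singleton_iff]
        have hc := Subgroup.mem_centralizer_singleton_iff.mp hxC
        have := congrArg (Subtype.val : ↥(twistedG2 K (3 ^ m)) → GL chevG2.Idx K) hc
        exact this.symm
      rw [hbot, Subgroup.mem_bot] at hmem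
      exact hu1 (Subtype.ext hmem)
    · have h1 : Nat.card ↥((chevG2.diagonalSubgroup K ⊓ twistedG2 K (3 ^ m)).subgroupOf
          (twistedG2 K (3 ^ m))) = 2 * N := by
        rw [← hN, ← twistedG2_H1' hK]
        exact Nat.card_congr (Subgroup.subgroupOfEquivOfLe inf_le_right).toEquiv
      rw [← h1]
      exact Subgroup.card_dvd_of_le inf_le_left
  refine ⟨hcent, ?_⟩
  have hu0G : wordG (reeWordU (3 ^ m) (0 : K) 1 0) ∈ twistedG2 K (3 ^ m) :=
    FieldData.wordU_mem 0 1 0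
  have hu0 : (⟨wordG (reeWordU (3 ^ m) (0 : K) 1 0), hu0G⟩ : ↥(twistedG2 K (3 ^ m))) ∈
      (chevG2.posUnipotent K ⊓ twistedG2 K (3 ^ m)).subgroupOf (twistedG2 K (3 ^ m)) :=
    ⟨wordG_mem_pos _ (reeWordU_pos _ 0 1 0), hu0G⟩
  have hu01 : (⟨wordG (reeWordU (3 ^ m) (0 : K) 1 0), hu0G⟩ : ↥(twistedG2 K (3 ^ m))) ≠ 1 := by
    intro h
    have h' : wordG (reeWordU (3 ^ m) (0 : K) 1 0) = 1 := congrArg Subtype.val h
    have := ((reeU_eq_one_iff FD 0 1 0).mp h').2.1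
    exact one_ne_zero this
  refine ⟨_, hu0, hu01, le_antisymm (hcent _ hu0 hu01) ?_⟩
  have hh0G : Tt (-1 : Kˣ) (-1 : Kˣ) ∈ twistedG2 K (3 ^ m) := Tt_neg_one_mem FD
  have hh0 : (⟨Tt (-1 : Kˣ) (-1 : Kˣ), hh0G⟩ : ↥(twistedG2 K (3 ^ m))) ∈
      (chevG2.diagonalSubgroup K ⊓ twistedG2 K (3 ^ m)).subgroupOf (twistedG2 K (3 ^ m)) ⊓
        Subgroup.centralizer {(⟨wordG (reeWordU (3 ^ m) (0 : K) 1 0), hu0G⟩ :
          ↥(twistedG2 K (3 ^ m)))} := by
    refine Subgroup.mem_inf.mpr ⟨Subgroup.mem_subgroupOf.mpr ⟨Tt_mem_diag _ _, hh0G⟩, ?_⟩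
    rw [Subgroup.mem_centralizer_singleton_iff]
    apply Subtype.ext
    exact invol_comm FD
  have hnt : Nontrivial ↥((chevG2.diagonalSubgroup K ⊓ twistedG2 K (3 ^ m)).subgroupOf
      (twistedG2 K (3 ^ m)) ⊓ Subgroup.centralizer {(⟨wordG (reeWordU (3 ^ m) (0 : K) 1 0), hu0G⟩ :
          ↥(twistedG2 K (3 ^ m)))}) := by
    refine ⟨⟨⟨_, hh0⟩, 1, ?_⟩⟩
    intro h
    have h' : Tt (-1 : Kˣ) (-1 : Kˣ) = (1 : GL chevG2.Idx K) :=
      congrArg (fun x => ((x.1 : ↥(twistedG2 K (3 ^ m))) : GL chevG2.Idx K)) h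
    exact invol_ne_one FD h'
  exact Finite.one_lt_card_iff_nontrivial.mpr hnt

end Cfsg.Agent.Helper15.Ree
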