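import Cfsg.Agent.Lib.Helper15.Ree.BruhatG2
import Cfsg.Agent.Lib.Helper15.Ree.ThreeG2a

/-!
# `²G₂`: the three point stabilisers on `G¹ / B¹` (S1153)
-/

set_option autoImplicit false
set_option linter.unusedSectionVars false
set_option linter.unusedVariables false

namespace Cfsg.Agent.Helper15.Ree

open Cfsg Cfsg.Lie Cfsg.Agent.Helper6.ReeS

theorem twistedG2_three_point {K : Type*} [Field K] [Fintype K] {m : ℕ}
    (hK : Fintype.card K = 3 ^ (2 * m + 1)) :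
    (∀ x y z : ↥(twistedG2 K (3 ^ m)) ⧸
        ((chevG2.borelSubgroup K ⊓ twistedG2 K (3 ^ m))).subgroupOf (twistedG2 K (3 ^ m)),
        x ≠ y → x ≠ z → y ≠ z →
        Nat.card ↥(MulAction.stabilizer ↥(twistedG2 K (3 ^ m)) x ⊓
          MulAction.stabilizer ↥(twistedG2 K (3 ^ m)) y ⊓
          MulAction.stabilizer ↥(twistedG2 K (3 ^ m)) z) ≤ 2) ∧
      ∃ x y z : ↥(twistedG2 K (3 ^ m)) ⧸
        ((chevG2.borelSubgroup K ⊓ twistedG2 K (3 ^ m))).subgroupOf (twistedG2 K (3 ^ m)),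
        x ≠ y ∧ x ≠ z ∧ y ≠ z ∧
        Nat.card ↥(MulAction.stabilizer ↥(twistedG2 K (3 ^ m)) x ⊓
          MulAction.stabilizer ↥(twistedG2 K (3 ^ m)) y ⊓
          MulAction.stabilizer ↥(twistedG2 K (3 ^ m)) z) = 2 := by
  classical
  haveI : Fact (Nat.Prime 3) := ⟨by norm_num⟩
  haveI : CharP K 3 := charP_of_card_eq_prime_pow hK
  have FD := fieldData_of_card hK
  have hperf : ∀ x : K, ∃ y : K, y ^ 3 = x := fun x => ⟨(x ^ 3 ^ m) ^ 3 ^ m, FD.cube x⟩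
  obtain ⟨α, hα⟩ := Cfsg.Agent.Helper6.G2C3.exists_graph_aut hperf
  have hn0G : (n0 : GL chevG2.Idx K) ∈ twistedG2 K (3 ^ m) := n0_mem_twisted FD
  obtain ⟨hcent, hex⟩ := cent_H1 hK
  refine three_point_stab
    ((chevG2.borelSubgroup K ⊓ twistedG2 K (3 ^ m)).subgroupOf (twistedG2 K (3 ^ m)))
    ((chevG2.posUnipotent K ⊓ twistedG2 K (3 ^ m)).subgroupOf (twistedG2 K (3 ^ m)))
    ((chevG2.diagonalSubgroup K ⊓ twistedG2 K (3 ^ m)).subgroupOf (twistedG2 K (3 ^ m)))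
    (⟨(n0 : GL chevG2.Idx K)⁻¹, inv_mem hn0G⟩ : ↥(twistedG2 K (3 ^ m)))
    ?_ ?_ ?_ ?_ ?_ ?_ ?_ ?_ hcent hex
  · -- the Bruhat decomposition
    intro g
    rcases ree_dec FD α hα ((g : GL chevG2.Idx K)⁻¹) (inv_mem g.2) with h | ⟨b, hb, u, hu, e⟩
    · left
      refine Subgroup.mem_subgroupOf.mpr ⟨?_, g.2⟩
      have := inv_mem h
      rwa [inv_inv] at this
    · right
      have hu1 : u⁻¹ ∈ chevG2.posUnipotent K ⊓ twistedG2 K (3 ^ m) :=
        (chevG2.posUnipotent K ⊓ twistedG2 K (3 ^ m)).inv_mem hu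
      have hb1 : b⁻¹ ∈ chevG2.borelSubgroup K ⊓ twistedG2 K (3 ^ m) :=
        (chevG2.borelSubgroup K ⊓ twistedG2 K (3 ^ m)).inv_mem hb
      refine ⟨⟨u⁻¹, hu1.2⟩, Subgroup.mem_subgroupOf.mpr hu1,
        ⟨b⁻¹, hb1.2⟩, Subgroup.mem_subgroupOf.mpr hb1, ?_⟩
      apply Subtype.ext
      change (g : GL chevG2.Idx K) = u⁻¹ * (n0 : GL chevG2.Idx K)⁻¹ * b⁻¹
      have e' : (g : GL chevG2.Idx K) = ((g : GL chevG2.Idx K)⁻¹)⁻¹ := (inv_inv _).symm
      rw [e', e]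
      group
  · -- `U¹ ≤ B¹`
    intro x hx
    have hx' := Subgroup.mem_subgroupOf.mp hx
    exact Subgroup.mem_subgroupOf.mpr
      ⟨(le_sup_left : chevG2.posUnipotent K ≤ chevG2.borelSubgroup K) hx'.1, hx'.2⟩
  · -- `H¹ ≤ B¹`
    intro x hx
    have hx' := Subgroup.mem_subgroupOf.mp hx
    exact Subgroup.mem_subgroupOf.mpr
      ⟨(le_sup_right : chevG2.diagonalSubgroup K ≤ chevG2.borelSubgroup K) hx'.1, hx'.2⟩
  · -- `B¹ = U¹ H¹`
    intro b hb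
    have hb' := Subgroup.mem_subgroupOf.mp hb
    obtain ⟨u, hu, h, hh, e⟩ := borel1_decomp FD α hα (b : GL chevG2.Idx K) hb'.1 hb'.2
    exact ⟨⟨u, hu.2⟩, Subgroup.mem_subgroupOf.mpr hu, ⟨h, hh.2⟩, Subgroup.mem_subgroupOf.mpr hh,
      Subtype.ext e⟩
  · -- `n` normalises `H¹`
    intro h hh
    have hh' := Subgroup.mem_subgroupOf.mp hh
    refine Subgroup.mem_subgroupOf.mpr ⟨?_, SetLike.coe_mem _⟩
    have e : (((⟨(n0 : GL chevG2.Idx K)⁻¹, inv_mem hn0G⟩ : ↥(twistedG2 K (3 ^ m)))⁻¹ * h *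
        ⟨(n0 : GL chevG2.Idx K)⁻¹, inv_mem hn0G⟩ : ↥(twistedG2 K (3 ^ m))) : GL chevG2.Idx K) =
        (n0 : GL chevG2.Idx K) * (h : GL chevG2.Idx K) * (n0 : GL chevG2.Idx K)⁻¹ := by
      push_cast
      rw [inv_inv]
    rw [e]
    exact mono_conj_diag n0 n0_mem_N _ hh'.1
  · -- `H¹` normalises `U¹`
    intro h hh u hu
    have hh' := Subgroup.mem_subgroupOf.mp hh
    have hu' := Subgroup.mem_subgroupOf.mp hu
    refine Subgroup.mem_subgroupOf.mpr ⟨?_, SetLike.coe_mem _⟩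
    have e : ((h * u * h⁻¹ : ↥(twistedG2 K (3 ^ m))) : GL chevG2.Idx K) =
        (h : GL chevG2.Idx K) * (u : GL chevG2.Idx K) * (h : GL chevG2.Idx K)⁻¹ := by
      push_cast
      rfl
    rw [e]
    exact diag_conj_pos _ hh'.1 _ hu'.1
  · -- opposite unipotent elements do not lie in `B`
    intro u hu hm
    have hu' := Subgroup.mem_subgroupOf.mp hu
    have hm' := Subgroup.mem_subgroupOf.mp hm
    have e : (((⟨(n0 : GL chevG2.Idx K)⁻¹, inv_mem hn0G⟩ : ↥(twistedG2 K (3 ^ m)))⁻¹ * u *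
        ⟨(n0 : GL chevG2.Idx K)⁻¹, inv_mem hn0G⟩ : ↥(twistedG2 K (3 ^ m))) : GL chevG2.Idx K) =
        (n0 : GL chevG2.Idx K) * (u : GL chevG2.Idx K) * (n0 : GL chevG2.Idx K)⁻¹ := by
      push_cast
      rw [inv_inv]
    rw [e] at hm'
    have h1 := borel_neg_trivial _ hm'.1 (n0_conj_mem_neg FD α hα _ hu'.1)
    apply Subtype.ext
    change (u : GL chevG2.Idx K) = 1
    have e2 : (u : GL chevG2.Idx K) = (n0 : GL chevG2.Idx K)⁻¹ *
        ((n0 : GL chevG2.Idx K) * (u : GL chevG2.Idx K) * (n0 : GL chevG2.Idx K)⁻¹) *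
          (n0 : GL chevG2.Idx K) := by group
    rw [e2, h1]
    group
  · -- `n ∉ B¹`
    intro hn
    have hn' := (Subgroup.mem_subgroupOf.mp hn).1
    have hn'' : (n0 : GL chevG2.Idx K)⁻¹ ∈ chevG2.borelSubgroup K := hn'
    have h1 : (n0 : GL chevG2.Idx K) ∈ chevG2.borelSubgroup K := by
      have := inv_mem hn''
      rwa [inv_inv] at this
    exact n0_not_mem_H (borel_mono_diag _ h1 n0_mem_N)

end Cfsg.Agent.Helper15.Ree
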