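import Cfsg.Agent.Lib.Helper15.Ree.SigmaGen
import Cfsg.Agent.Lib.Helper15.Ree.Checks3

/-!
# The torus of `G₂` as the set of the `h_a(p) h_b(q)` (for S1114)
-/

set_option autoImplicit false
set_option linter.unusedSectionVars false
set_option maxRecDepth 100000

namespace Cfsg.Agent.Helper15.Ree

open Cfsg.Lie Cfsg.Agent.Helper18 Cfsg.Agent.Helper6

variable {K : Type*} [Field K]

/-- soundness of the check modulo 3 -/
theorem wordMat_eq_of_check3 [CharP K 3] (a b : Kˣ) (w1 w2 : List (ℕ × LP))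
    (h : wordEqCheck3 w1 w2 = true) :
    chevG2.wordMat K (evalWord a b w1) = chevG2.wordMat K (evalWord a b w2) := by
  apply mat_eq_of_mulVec_single
  intro col
  rw [← toVec_basisVec chevG2 a b col, applyWord_sound, applyWord_sound]
  funext row
  unfold toVec
  rw [G2C3.coeff_eq_eval, G2C3.coeff_eq_eval]
  rw [wordEqCheck3, List.all_eq_true] at h
  have h1 := h _ (List.mem_range.mpr (code_lt chevG2 col))
  rw [List.all_eq_true] at h1
  have h2 := h1 _ (List.mem_range.mpr (code_lt chevG2 row))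
  have h3 := G2C3.eval_of_div3 a b _ h2
  rw [LP.eval_append, LP.eval_neg] at h3
  exact sub_eq_zero.1 (by rw [sub_eq_add_neg]; exact h3)

/-- the entries of the matrix of a word -/
theorem entry_word (a b : Kˣ) (w : List (ℕ × LP)) (row col : chevG2.Idx) :
    chevG2.wordMat K (evalWord a b w) row col =
      LP.eval a b (entryLP w (code chevG2 row) (code chevG2 col)) := by
  have h := congrFun (applyWord_sound chevG2 a b w (basisVec (code chevG2 col))) row
  rw [toVec_basisVec] at h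
  unfold entryLP
  rw [LP.eval_norm, ← G2C3.coeff_eq_eval]
  unfold toVec at h
  rw [← h]
  simp [Matrix.mulVec_single_one]

/-- the word `h_r(p)` over the field -/
def hF (r : ℕ) (p : Kˣ) : List (ℕ × K) :=
  [(r, (p : K)), (chevG2.neg r, -((p⁻¹ : Kˣ) : K)), (r, (p : K)), (r, -1), (chevG2.neg r, 1), (r, -1)]

theorem eval_hWa (a b : Kˣ) (r : ℕ) : evalWord a b (hWa r) = hF r a := by
  simp [evalWord, hWa, hF, LP.eval, LP.evalMono]

theorem eval_hWb (a b : Kˣ) (r : ℕ) : evalWord a b (hWb r) = hF r b := by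
  simp [evalWord, hWb, hF, LP.eval, LP.evalMono]

theorem eval_hWab (a b : Kˣ) (r : ℕ) : evalWord a b (hWab r) = hF r (a * b) := by
  simp [evalWord, hWab, hF, LP.eval, LP.evalMono, mul_comm]

theorem eval_hWk (a b : Kˣ) (r : ℕ) (k : ℤ) : evalWord a b (hWk r k) = hF r (a ^ k) := by
  simp [evalWord, hWk, hF, LP.eval, LP.evalMono]

theorem eval_hWm (a b : Kˣ) (r : ℕ) : evalWord a b (hWm r) = hF r (-1 : Kˣ) := by
  simp [evalWord, hWm, hF, kc, LP.eval, LP.evalMono]

/-- `h_a(p)` -/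
noncomputable def Ha (p : Kˣ) : GL chevG2.Idx K := wordG (hF 7 p)
/-- `h_b(q)` -/
noncomputable def Hb (q : Kˣ) : GL chevG2.Idx K := wordG (hF 6 q)
/-- `h_a(p) h_b(q)` -/
noncomputable def Tt (p q : Kˣ) : GL chevG2.Idx K := Ha p * Hb q

theorem Ha_mul (p p' : Kˣ) : Ha p * Ha p' = Ha (p * p') := by
  have h := wordG_eq_of_check p p' _ _ chk_K2a
  rw [evalWord_append, wordG_append, eval_hWa, eval_hWb, eval_hWab] at h
  exact h

theorem Hb_mul (q q' : Kˣ) : Hb q * Hb q' = Hb (q * q') := by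
  have h := wordG_eq_of_check q q' _ _ chk_K2b
  rw [evalWord_append, wordG_append, eval_hWa, eval_hWb, eval_hWab] at h
  exact h

theorem Ha_Hb_comm (p q : Kˣ) : Ha p * Hb q = Hb q * Ha p := by
  have h := wordG_eq_of_check p q _ _ chk_K2c
  rw [evalWord_append, evalWord_append, wordG_append, wordG_append, eval_hWa, eval_hWb] at h
  exact h

theorem Ha_one : Ha (1 : Kˣ) = 1 := by
  have h := Ha_mul (1 : Kˣ) 1
  rw [mul_one] at h
  exact mul_left_cancel (a := Ha (1 : Kˣ)) (by rw [h, mul_one])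

theorem Hb_one : Hb (1 : Kˣ) = 1 := by
  have h := Hb_mul (1 : Kˣ) 1
  rw [mul_one] at h
  exact mul_left_cancel (a := Hb (1 : Kˣ)) (by rw [h, mul_one])

theorem Tt_mul (p q p' q' : Kˣ) : Tt p q * Tt p' q' = Tt (p * p') (q * q') := by
  unfold Tt
  rw [← Ha_mul, ← Hb_mul, mul_assoc, ← mul_assoc (Hb q), ← Ha_Hb_comm, mul_assoc, ← mul_assoc]

theorem Tt_one : Tt (1 : Kˣ) 1 = 1 := by
  unfold Tt; rw [Ha_one, Hb_one, mul_one]

theorem Tt_inv (p q : Kˣ) : (Tt p q)⁻¹ = Tt p⁻¹ q⁻¹ := by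
  rw [inv_eq_iff_mul_eq_one, Tt_mul, mul_inv_cancel, mul_inv_cancel, Tt_one]

theorem Tt_eq_word (p q : Kˣ) : Tt p q = wordG (evalWord p q (hWa 7 ++ hWb 6)) := by
  rw [evalWord_append, wordG_append, eval_hWa, eval_hWb]
  rfl

theorem corootTab_len : corootTab.length = 12 := rfl

/-- the generators of the torus -/
theorem hMat_eq_Tt (r : ℕ) (hr : r < 12) (t : Kˣ) (g : GL chevG2.Idx K)
    (hg : (g : Matrix chevG2.Idx chevG2.Idx K) = chevG2.hMat K r (t : K)) :
    g = Tt (t ^ (corootTab.getD r (0, 0)).1) (t ^ (corootTab.getD r (0, 0)).2) := by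
  have hc := (List.all_eq_true.mp chk_K1) r (List.mem_range.mpr hr)
  have h := wordG_eq_of_check t (1 : Kˣ) _ _ hc
  rw [evalWord_append, wordG_append, eval_hWa, eval_hWk, eval_hWk] at h
  have hg' : g = wordG (hF r t) := by
    apply Units.ext
    rw [hg, wordG_val]
    unfold ChevalleyDatum.hMat ChevalleyDatum.hWord ChevalleyDatum.nWord hF
    congr 1
    simp
  rw [hg', h]
  rfl

theorem mem_diag_Tt (g : GL chevG2.Idx K) (hg : g ∈ chevG2.diagonalSubgroup K) :
    ∃ p q : Kˣ, g = Tt p q := by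
  unfold ChevalleyDatum.diagonalSubgroup at hg
  induction hg using Subgroup.closure_induction with
  | mem x hx =>
    obtain ⟨r, t, hr, ht, hx⟩ := hx
    exact ⟨_, _, hMat_eq_Tt r hr (Units.mk0 t ht) x hx⟩
  | one => exact ⟨1, 1, Tt_one.symm⟩
  | mul x y _ _ hx hy =>
    obtain ⟨p, q, rfl⟩ := hx
    obtain ⟨p', q', rfl⟩ := hy
    exact ⟨_, _, Tt_mul p q p' q'⟩
  | inv x _ hx =>
    obtain ⟨p, q, rfl⟩ := hx
    exact ⟨_, _, Tt_inv p q⟩

theorem Tt_mem_diag (p q : Kˣ) : Tt p q ∈ chevG2.diagonalSubgroup K := by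
  unfold Tt
  refine mul_mem ?_ ?_
  · refine Subgroup.subset_closure ⟨7, (p : K), by decide, p.ne_zero, ?_⟩
    unfold Ha
    rw [wordG_val]
    unfold ChevalleyDatum.hMat ChevalleyDatum.hWord ChevalleyDatum.nWord hF
    congr 1
    simp
  · refine Subgroup.subset_closure ⟨6, (q : K), by decide, q.ne_zero, ?_⟩
    unfold Hb
    rw [wordG_val]
    unfold ChevalleyDatum.hMat ChevalleyDatum.hWord ChevalleyDatum.nWord hF
    congr 1
    simp

end Cfsg.Agent.Helper15.Ree
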