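import Cfsg.Agent.Lib.Helper15.Ree.Torus

/-!
# The torus `H¹ = G¹ ∩ H` of `²G₂` (for S1114): elements
-/

set_option autoImplicit false
set_option linter.unusedSectionVars false
set_option maxRecDepth 100000

namespace Cfsg.Agent.Helper15.Ree

open Cfsg.Lie Cfsg.Agent.Helper18 Cfsg.Agent.Helper6

variable {K : Type*} [Field K]

/-- the coordinate index of the root vector `e_6` -/
def e6 : chevG2.Idx := Sum.inr ⟨6, by decide⟩
/-- the coordinate index of the root vector `e_7` -/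
def e7 : chevG2.Idx := Sum.inr ⟨7, by decide⟩

theorem code_e6 : code chevG2 e6 = 8 := rfl
theorem code_e7 : code chevG2 e7 = 9 := rfl

theorem Tt_entry6 (p q : Kˣ) :
    (Tt p q : Matrix chevG2.Idx chevG2.Idx K) e6 e6 = ((p ^ (-3 : ℤ) * q ^ (2 : ℤ) : Kˣ) : K) := by
  rw [Tt_eq_word, wordG_val, entry_word, code_e6, chk_K3a]
  simp [LP.eval, LP.evalMono]

theorem Tt_entry7 (p q : Kˣ) :
    (Tt p q : Matrix chevG2.Idx chevG2.Idx K) e7 e7 = ((p ^ (2 : ℤ) * q ^ (-1 : ℤ) : Kˣ) : K) := by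
  rw [Tt_eq_word, wordG_val, entry_word, code_e7, chk_K3b]
  simp [LP.eval, LP.evalMono]

/-- the torus element with `χ(b) = μ`, `χ(a) = μ^θ` -/
noncomputable def Phi (e : ℕ) (μ : Kˣ) : GL chevG2.Idx K :=
  Tt ((μ ^ e) ^ 2 * μ) ((μ ^ e) ^ 3 * μ ^ 2)

theorem recover_p (p q : Kˣ) : (p ^ (2 : ℤ) * q ^ (-1 : ℤ)) ^ 2 * (p ^ (-3 : ℤ) * q ^ (2 : ℤ)) = p := by
  apply Units.ext
  push_cast
  have hp := p.ne_zero
  have hq := q.ne_zero
  simp only [zpow_neg, zpow_ofNat, zpow_one]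
  field_simp

theorem recover_q (p q : Kˣ) :
    (p ^ (2 : ℤ) * q ^ (-1 : ℤ)) ^ 3 * (p ^ (-3 : ℤ) * q ^ (2 : ℤ)) ^ 2 = q := by
  apply Units.ext
  push_cast
  have hp := p.ne_zero
  have hq := q.ne_zero
  simp only [zpow_neg, zpow_ofNat, zpow_one]
  field_simp

section

variable [CharP K 3] {e : ℕ} (FD : FieldData K e)
include FD

/-- a σ-invariant torus element is `Phi μ` for its value `μ` on the root `b` -/
theorem Tt_sig (p q : Kˣ) (h : SigP FD.phi (Tt p q)) :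
    Tt p q = Phi e (p ^ (-3 : ℤ) * q ^ (2 : ℤ)) := by
  obtain ⟨_, _, h3⟩ := h
  have h4 : (Tt p q : Matrix chevG2.Idx chevG2.Idx K) e7 e7 =
      FD.phi ((Tt p q : Matrix chevG2.Idx chevG2.Idx K) e6 e6) := congrFun (congrFun h3 4) 4
  rw [Tt_entry6, Tt_entry7] at h4
  have h5 : p ^ (2 : ℤ) * q ^ (-1 : ℤ) = (p ^ (-3 : ℤ) * q ^ (2 : ℤ)) ^ e := by
    apply Units.ext
    rw [h4, Units.val_pow_eq_pow_val]
    rfl
  unfold Phi
  rw [← h5, recover_p, recover_q]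

end

end Cfsg.Agent.Helper15.Ree
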