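import Cfsg.Agent.Lib.Helper15.Ree.Torus2

/-!
# The torus `H¹ = G¹ ∩ H` of `²G₂` (for S1114): membership in `G¹`
-/

set_option autoImplicit false
set_option linter.unusedSectionVars false
set_option maxRecDepth 100000

namespace Cfsg.Agent.Helper15.Ree

open Cfsg.Lie Cfsg.Agent.Helper18 Cfsg.Agent.Helper6

variable {K : Type*} [Field K]

/-- `h_r(t)` as a torus element -/
theorem hF_eq_Tt (r : ℕ) (hr : r < 12) (t : Kˣ) :
    wordG (hF r t) = Tt (t ^ (corootTab.getD r (0, 0)).1) (t ^ (corootTab.getD r (0, 0)).2) := by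
  have hc := (List.all_eq_true.mp chk_K1) r (List.mem_range.mpr hr)
  have h := wordG_eq_of_check t (1 : Kˣ) _ _ hc
  rw [evalWord_append, wordG_append, eval_hWa, eval_hWk, eval_hWk] at h
  rw [h]
  rfl

theorem H8_eq_Tt (p : Kˣ) : H8 p = Tt p (p ^ 3) := by
  have h := hF_eq_Tt 8 (by norm_num) p
  have e1 : H8 p = wordG (hF 8 p) := by
    unfold H8 hF
    rw [neg8]
  rw [e1, h]
  simp [corootTab]

theorem H10_eq_Tt (q : Kˣ) : H10 q = Tt q q := by
  have h := hF_eq_Tt 10 (by norm_num) q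
  have e1 : H10 q = wordG (hF 10 q) := by
    unfold H10 hF
    rw [neg10]
  rw [e1, h]
  simp [corootTab]

/-- the pieces of the word of the involution -/
def iW1 : List (ℕ × LP) := [(7, []), (6, []), (8, []), (9, kc 1), (10, []), (11, kc 1)]
def iW2 : List (ℕ × LP) := [(4, []), (5, []), (3, []), (2, kc (-1)), (1, []), (0, kc (-1))]
def iW3 : List (ℕ × LP) := [(7, kc 1), (6, kc 1), (8, kc 2), (9, kc 2), (10, kc 1), (11, kc 1)]
def iW4 : List (ℕ × LP) := [(4, kc 1), (5, kc 1), (3, kc (-2)), (2, kc 2), (1, kc (-1)), (0, kc 1)]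

theorem iW_eq : iW = iW1 ++ iW2 ++ iW3 ++ iW4 := rfl

namespace FieldData

variable {e : ℕ} (FD : FieldData K e)
include FD

theorem neg_one_pow_e : (-1 : K) ^ e = -1 := FD.odd.neg_one_pow

theorem word1 : reeWordU e (0 : K) 0 1 = evalWord (1 : Kˣ) (1 : Kˣ) iW1 := by
  have he1 : e + 1 ≠ 0 := by omega
  have he2 : 2 * e + 1 ≠ 0 := by omega
  simp [reeWordU, evalWord, iW1, kc, LP.eval, LP.evalMono, g2a, g2b, g2ab, g2aab, g2aaab, g2aaabb,
    zero_pow FD.epos, zero_pow he1, zero_pow he2]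

theorem word2 : reeWordV e (0 : K) 0 1 = evalWord (1 : Kˣ) (1 : Kˣ) iW2 := by
  obtain ⟨h7, h6, h8, h9, h10, h11⟩ := ng_vals
  have he1 : e + 1 ≠ 0 := by omega
  have he2 : 2 * e + 1 ≠ 0 := by omega
  simp [reeWordV, reeWordU, ChevalleyDatum.negWord, evalWord, iW2, kc, LP.eval, LP.evalMono, g2a, g2b,
    g2ab, g2aab, g2aaab, g2aaabb, h7, h6, h8, h9, h10, h11, zero_pow FD.epos, zero_pow he1,
    zero_pow he2]

theorem word3 : reeWordU e (1 : K) 1 1 = evalWord (1 : Kˣ) (1 : Kˣ) iW3 := by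
  simp [reeWordU, evalWord, iW3, kc, LP.eval, LP.evalMono, g2a, g2b, g2ab, g2aab, g2aaab, g2aaabb]
  norm_num

theorem word4 : reeWordV e (-1 : K) 1 (-1) = evalWord (1 : Kˣ) (1 : Kˣ) iW4 := by
  obtain ⟨h7, h6, h8, h9, h10, h11⟩ := ng_vals
  have hm := FD.neg_one_pow_e
  have hm1 : (-1 : K) ^ (e + 1) = 1 := by rw [pow_succ, hm]; ring
  have hm2 : (-1 : K) ^ (2 * e + 1) = -1 := by
    rw [pow_succ, mul_comm 2 e, pow_mul, hm]; ring
  simp [reeWordV, reeWordU, ChevalleyDatum.negWord, evalWord, iW4, kc, LP.eval, LP.evalMono, g2a, g2b,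
    g2ab, g2aab, g2aaab, g2aaabb, h7, h6, h8, h9, h10, h11, hm, hm1, hm2]
  norm_num

end FieldData

section

variable [CharP K 3] {e : ℕ} (FD : FieldData K e)
include FD

/-- the involution of the torus lies in `G¹` -/
theorem Tt_neg_one_mem : Tt (-1 : Kˣ) (-1 : Kˣ) ∈ twistedG2 K e := by
  have h := wordMat_eq_of_check3 (K := K) (1 : Kˣ) (1 : Kˣ) _ _ chk_K4
  have h' : wordG (evalWord (1 : Kˣ) (1 : Kˣ) iW) =
      wordG (evalWord (1 : Kˣ) (1 : Kˣ) (hWm 7 ++ hWm 6)) :=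
    Units.ext (by rw [wordG_val, wordG_val]; exact h)
  have e1 : Tt (-1 : Kˣ) (-1 : Kˣ) = wordG (evalWord (1 : Kˣ) (1 : Kˣ) (hWm 7 ++ hWm 6)) := by
    rw [evalWord_append, wordG_append, eval_hWm, eval_hWm]
    rfl
  rw [e1, ← h', iW_eq, evalWord_append, evalWord_append, evalWord_append, wordG_append, wordG_append,
    wordG_append, ← FD.word1, ← FD.word2, ← FD.word3, ← FD.word4]
  exact mul_mem (mul_mem (mul_mem (FieldData.wordU_mem _ _ _) (FieldData.wordV_mem _ _ _))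
    (FieldData.wordU_mem _ _ _)) (FieldData.wordV_mem _ _ _)

/-- the torus elements `h(λ)` of the perfectness proof as `Tt` -/
theorem hl_eq_Tt (l : Kˣ) : FieldData.hl (e := e) l = Tt (l ^ e * l) ((l ^ e) ^ 3 * l) := by
  unfold FieldData.hl Hh
  rw [H8_eq_Tt, H10_eq_Tt, Tt_mul]

theorem Tt_hl_mem (l : Kˣ) : Tt (l ^ e * l) ((l ^ e) ^ 3 * l) ∈ twistedG2 K e := by
  rw [← hl_eq_Tt FD]
  exact FD.hl_mem l

end

end Cfsg.Agent.Helper15.Ree
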