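import Cfsg.Agent.Lib.Helper15.Ree.Torus3

/-!
# The torus `H¹ = G¹ ∩ H` of `²G₂` has order `q - 1` (S1114)
-/

set_option autoImplicit false
set_option linter.unusedSectionVars false
set_option maxRecDepth 100000

namespace Cfsg.Agent.Helper15.Ree

open Cfsg.Lie Cfsg.Agent.Helper18 Cfsg.Agent.Helper6

variable {K : Type*} [Field K]

theorem Phi_mul (e : ℕ) (x y : Kˣ) : Phi e (x * y) = Phi e x * Phi e y := by
  unfold Phi
  rw [Tt_mul]
  congr 1
  · simp only [mul_pow]; rw [mul_mul_mul_comm]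
  · simp only [mul_pow]; rw [mul_mul_mul_comm]

theorem Phi_entry6 (e : ℕ) (μ : Kˣ) :
    (Phi e μ : Matrix chevG2.Idx chevG2.Idx K) e6 e6 = (μ : K) := by
  unfold Phi
  rw [Tt_entry6]
  have hμ := μ.ne_zero
  push_cast
  simp only [zpow_neg, zpow_ofNat]
  field_simp

/-- every unit is `± λ^(3θ-1)` -/
theorem exists_decomp [Fintype K] {m : ℕ} (hK : Fintype.card K = 3 ^ (2 * m + 1)) (d : ℕ)
    (hd : d + 1 = 3 * 3 ^ m) (μ : Kˣ) :
    ∃ η l : Kˣ, (η = 1 ∨ η = -1) ∧ μ = η * l ^ d := by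
  classical
  set e := 3 ^ m with he
  have hq : 3 ^ (2 * m + 1) = 3 * e * e := by rw [he]; ring
  have hmod : 3 ^ (2 * m + 1) % 4 = 3 := by
    rw [pow_succ, pow_mul]
    norm_num [Nat.mul_mod, Nat.pow_mod]
  obtain ⟨N, hN⟩ : ∃ N, 3 ^ (2 * m + 1) = 2 * N + 1 := ⟨3 ^ (2 * m + 1) / 2, by omega⟩
  obtain ⟨M, hM⟩ : ∃ M, N + 1 = 2 * M := ⟨(N + 1) / 2, by omega⟩
  have hcard : ∀ x : Kˣ, x ^ (2 * N) = 1 := by
    intro x
    have h1 : Fintype.card Kˣ = 2 * N := by rw [Fintype.card_units, hK, hN]; omega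
    rw [← h1]
    exact pow_card_eq_one
  set η := μ ^ N with hη
  have hηη : η * η = 1 := by rw [hη, ← pow_add, ← two_mul]; exact hcard μ
  have hη1 : η = 1 ∨ η = -1 := by
    have : (η : K) * (η : K) = 1 := by rw [← Units.val_mul, hηη, Units.val_one]
    rcases mul_self_eq_one_iff.mp this with h | h
    · left; exact Units.ext h
    · right; exact Units.ext (by rw [h]; simp)
  set ν := η * μ with hν
  have hνN : ν ^ N = 1 := by
    calc ν ^ N = η ^ N * μ ^ N := by rw [hν, mul_pow]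
      _ = η ^ N * η := by rw [hη]
      _ = η ^ (N + 1) := (pow_succ _ _).symm
      _ = η ^ (2 * M) := by rw [hM]
      _ = (η * η) ^ M := by rw [pow_mul, sq]
      _ = 1 := by rw [hηη, one_pow]
  have hdd : (d + 2) * d = 6 * N + 2 := by
    have h1 : (d + 1) * (d + 1) = 3 * (2 * N + 1) := by rw [hd, ← hN, hq]; ring
    nlinarith
  refine ⟨η, ν ^ ((d + 2) * M), hη1, ?_⟩
  have h2 : (ν ^ ((d + 2) * M)) ^ d = ν := by
    rw [← pow_mul]
    have : (d + 2) * M * d = N * (6 * M) + N + 1 := by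
      calc (d + 2) * M * d = ((d + 2) * d) * M := by ring
        _ = (6 * N + 2) * M := by rw [hdd]
        _ = N * (6 * M) + 2 * M := by ring
        _ = N * (6 * M) + N + 1 := by rw [← hM]; ring
    rw [this, pow_succ, pow_add, pow_mul, hνN, one_pow, one_mul, one_mul]
  rw [h2, hν, ← mul_assoc, hηη, one_mul]

section

variable [CharP K 3]

theorem Phi_mem_G [Fintype K] {m : ℕ} (hK : Fintype.card K = 3 ^ (2 * m + 1)) (μ : Kˣ) :
    Phi (3 ^ m) μ ∈ twistedG2 K (3 ^ m) := by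
  have FD := fieldData_of_card hK
  set e := 3 ^ m with he
  have hepos : 1 ≤ e := Nat.one_le_pow _ _ (by norm_num)
  obtain ⟨η, l, hη, rfl⟩ := exists_decomp hK (3 * e - 1) (by omega) μ
  rw [Phi_mul]
  refine mul_mem ?_ ?_
  · rcases hη with rfl | rfl
    · have : Phi e (1 : Kˣ) = 1 := by unfold Phi; simp [Tt_one]
      rw [this]; exact one_mem _
    · have hm : (-1 : Kˣ) ^ e = -1 := FD.odd.neg_one_pow
      have : Phi e (-1 : Kˣ) = Tt (-1 : Kˣ) (-1 : Kˣ) := by
        unfold Phi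
        rw [hm]
        congr 1
        · rw [neg_one_sq, one_mul]
        · rw [Odd.neg_one_pow (by decide : Odd 3), neg_one_sq, mul_one]
      rw [this]
      exact Tt_neg_one_mem FD
  · -- `Phi (l^(3e-1)) = h(l)`
    obtain ⟨a, ha⟩ : ∃ a : Kˣ, a = l ^ e := ⟨_, rfl⟩
    obtain ⟨b, hb⟩ : ∃ b : Kˣ, b = l ^ (3 * e - 1) := ⟨_, rfl⟩
    rw [← hb]
    have hcube : (a ^ e) ^ 3 = l := by
      apply Units.ext
      rw [ha]
      push_cast
      exact FD.cube (l : K)
    have hbl : b * l = a ^ 3 := by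
      rw [hb, ha, ← pow_succ, ← pow_mul]
      congr 1; omega
    have hbe : b ^ e * a = l := by
      have h1 : (b * l) ^ e = (a ^ 3) ^ e := by rw [hbl]
      rw [mul_pow, ← ha] at h1
      rw [h1, ← pow_mul, mul_comm 3 e, pow_mul, hcube]
    have hb1 : b = a ^ 3 * l⁻¹ := eq_mul_inv_of_mul_eq hbl
    have hb2 : b ^ e = l * a⁻¹ := eq_mul_inv_of_mul_eq hbe
    have : Phi e b = Tt (a * l) (a ^ 3 * l) := by
      unfold Phi
      rw [hb2, hb1]
      congr 1
      · apply Units.ext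
        push_cast
        have h1 := a.ne_zero
        have h2 := l.ne_zero
        field_simp
      · apply Units.ext
        push_cast
        have h1 := a.ne_zero
        have h2 := l.ne_zero
        field_simp
    rw [this, ha]
    exact Tt_hl_mem FD l

/-- `|G¹ ∩ H| = q - 1` for `²G₂(q)` -/
theorem twistedG2_H1 [Fintype K] {m : ℕ} (hK : Fintype.card K = 3 ^ (2 * m + 1)) :
    Nat.card ↥(chevG2.diagonalSubgroup K ⊓ twistedG2 K (3 ^ m)) = 3 ^ (2 * m + 1) - 1 := by
  classical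
  have FD := fieldData_of_card hK
  let φ : Kˣ → ↥(chevG2.diagonalSubgroup K ⊓ twistedG2 K (3 ^ m)) := fun μ =>
    ⟨Phi (3 ^ m) μ, Tt_mem_diag _ _, Phi_mem_G hK μ⟩
  have hφ : Function.Bijective φ := by
    constructor
    · intro μ μ' h
      have h' : Phi (3 ^ m) μ = Phi (3 ^ m) μ' := congrArg Subtype.val h
      have h2 := congrArg (fun g : GL chevG2.Idx K => (g : Matrix chevG2.Idx chevG2.Idx K) e6 e6) h'
      simp only [Phi_entry6] at h2
      exact Units.ext h2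
    · rintro ⟨g, hgH, hgG⟩
      obtain ⟨p, q, rfl⟩ := mem_diag_Tt g hgH
      have hS : SigP FD.phi (Tt p q) := twisted_le_sigInv FD hgG
      exact ⟨_, Subtype.ext (Tt_sig FD p q hS).symm⟩
  rw [← Nat.card_congr (Equiv.ofBijective φ hφ), Nat.card_eq_fintype_card, Fintype.card_units, hK]

end

/-- `|G¹ ∩ H| = q - 1` for `²G₂(q)`, without the characteristic instance -/
theorem twistedG2_H1' [Fintype K] {m : ℕ} (hK : Fintype.card K = 3 ^ (2 * m + 1)) :
    Nat.card ↥(chevG2.diagonalSubgroup K ⊓ twistedG2 K (3 ^ m)) = 3 ^ (2 * m + 1) - 1 := by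
  haveI : Fact (Nat.Prime 3) := ⟨by norm_num⟩
  haveI : CharP K 3 := charP_of_card_eq_prime_pow hK
  exact twistedG2_H1 hK

end Cfsg.Agent.Helper15.Ree
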