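import Cfsg.Agent.Lib.Helper15.Ree.BlockUnique

/-!
# `U¹ = G¹ ∩ U` in `²G₂(3^(2m+1))` (S1101)
-/

set_option autoImplicit false
set_option linter.unusedSectionVars false
set_option maxRecDepth 100000

namespace Cfsg.Agent.Helper15.Ree

open Cfsg.Lie Cfsg.Agent.Helper18 Cfsg.Agent.Helper6 Cfsg.Agent.Helper6.BlockHom Cfsg.Agent.S1043

variable {K : Type*} [Field K]

theorem range66 : List.range' 6 6 = [6, 7, 8, 9, 10, 11] := rfl

theorem wordG_ordWord (c : ℕ → K) :
    wordG (ordWord c 6 6) = xg 6 (c 6) * xg 7 (c 7) * U2 (c 8) (c 9) (c 10) (c 11) := by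
  simp [ordWord, range66, wordG, U2, mul_assoc]

theorem ordWord_lt (c : ℕ → K) : ∀ p ∈ ordWord c 6 6, p.1 < 12 := by
  intro p hp
  simp only [ordWord, range66, List.map_cons, List.map_nil, List.mem_cons, List.not_mem_nil,
    or_false] at hp
  rcases hp with rfl | rfl | rfl | rfl | rfl | rfl <;> norm_num

theorem sig_sig15 : ∀ r < 12, G2C3.sig (G2C3.sig r) = r := by decide
theorem short_sig : ∀ r < 12, G2C3.isShort (G2C3.sig r) = !G2C3.isShort r := by decide

theorem map_inj15 (f : K →+* K) (M N : Matrix (Fin 7) (Fin 7) K) (h : M.map f = N.map f) : M = N := by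
  ext i j
  have := congrFun (congrFun h i) j
  simp only [Matrix.map_apply] at this
  exact f.injective this

theorem wordG_mem_pos (w : List (ℕ × K)) (hw : ∀ p ∈ w, 6 ≤ p.1 ∧ p.1 < 12) :
    wordG w ∈ chevG2.posUnipotent K := by
  induction w with
  | nil => rw [wordG_nil]; exact one_mem _
  | cons p w ih =>
    rw [wordG_cons]
    refine mul_mem ?_ (ih fun q hq => hw q (List.mem_cons_of_mem _ hq))
    obtain ⟨h1, h2⟩ := hw p List.mem_cons_self
    exact Subgroup.subset_closure ⟨p.1, p.2, posOfRange15 p.1 h2 h1, rfl⟩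

theorem reeWordU_pos (e : ℕ) (t u v : K) : ∀ p ∈ reeWordU e t u v, 6 ≤ p.1 ∧ p.1 < 12 := by
  intro p hp
  simp only [reeWordU, g2a, g2b, g2ab, g2aab, g2aaab, g2aaabb, List.mem_cons,
    List.not_mem_nil, or_false] at hp
  rcases hp with rfl | rfl | rfl | rfl | rfl | rfl <;> norm_num

namespace FieldData

variable {e : ℕ} (FD : FieldData K e)
include FD

theorem twist_twist (w : List (ℕ × K)) (hw : ∀ p ∈ w, p.1 < 12) :
    twistWord FD.phi (twistWord FD.phi w) = w := by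
  induction w with
  | nil => rfl
  | cons p w ih =>
    have h2 : ∀ (q : ℕ × K) (l : List (ℕ × K)), twistWord FD.phi (q :: l) =
        (G2C3.sig q.1, FD.phi (if G2C3.isShort q.1 then q.2 ^ 3 else q.2)) :: twistWord FD.phi l := by
      intro q l; rfl
    have hp := hw p List.mem_cons_self
    rw [h2, h2, ih fun q hq => hw q (List.mem_cons_of_mem _ hq)]
    simp only [sig_sig15 p.1 hp, short_sig p.1 hp]
    congr 1
    apply Prod.ext
    · rfl
    · simp only
      cases h : G2C3.isShort p.1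
      · simp only [Bool.not_false, if_true, Bool.false_eq_true, if_false]
        exact FD.phi_pow3 p.2
      · simp only [Bool.not_true, Bool.false_eq_true, if_false, if_true]
        rw [map_pow, map_pow]
        exact FD.phi_cube p.2

/-- the ordered form of a Ree element -/
def nfc (e : ℕ) (t u v : K) : ℕ → K := fun r =>
  if r = 6 then t else if r = 7 then t ^ e else if r = 8 then u ^ e else if r = 9 then v ^ e
  else if r = 10 then (t ^ e) ^ 3 * t + u else if r = 11 then (t ^ e) ^ 3 * t ^ 2 + v else 0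

omit FD in
theorem nfc_vals (t u v : K) : nfc e t u v 6 = t ∧ nfc e t u v 7 = t ^ e ∧ nfc e t u v 8 = u ^ e ∧
    nfc e t u v 9 = v ^ e ∧ nfc e t u v 10 = (t ^ e) ^ 3 * t + u ∧
    nfc e t u v 11 = (t ^ e) ^ 3 * t ^ 2 + v := by
  refine ⟨?_, ?_, ?_, ?_, ?_, ?_⟩ <;> simp [nfc]

theorem wordG_reeWordU_nf (t u v : K) :
    wordG (reeWordU e t u v) = wordG (ordWord (nfc e t u v) 6 6) := by
  rw [FD.word_eq_U, FD.twist_reeWordU, wordG_ordWord]
  simp [nfc]

/-- the twist of an ordered product, in ordered form -/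
noncomputable def twc (c : ℕ → K) : ℕ → K := fun r =>
  if r = 6 then FD.phi (c 7 ^ 3) else if r = 7 then FD.phi (c 6)
  else if r = 8 then -(FD.phi (c 6) * FD.phi (c 7 ^ 3)) + FD.phi (c 10)
  else if r = 9 then -(FD.phi (c 6) ^ 2 * FD.phi (c 7 ^ 3)) + FD.phi (c 11)
  else if r = 10 then FD.phi (c 6) ^ 3 * FD.phi (c 7 ^ 3) + FD.phi (c 8 ^ 3)
  else if r = 11 then FD.phi (c 6) ^ 3 * FD.phi (c 7 ^ 3) ^ 2 + FD.phi (c 9 ^ 3) else 0

theorem twist_ordWord (c : ℕ → K) :
    wordG (twistWord FD.phi (ordWord c 6 6)) = wordG (ordWord (FD.twc c) 6 6) := by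
  obtain ⟨s7, s6, s8, s9, s10, s11⟩ := sig_vals
  obtain ⟨i7, i6, i8, i9, i10, i11⟩ := short_vals
  have hw : twistWord FD.phi (ordWord c 6 6) =
      [(7, FD.phi (c 6)), (6, FD.phi (c 7 ^ 3)), (10, FD.phi (c 8 ^ 3)), (11, FD.phi (c 9 ^ 3)),
        (8, FD.phi (c 10)), (9, FD.phi (c 11))] := by
    simp [twistWord, ordWord, range66, s7, s6, s8, s9, s10, s11, i7, i6, i8, i9, i10, i11]
  rw [hw, wordG_ordWord]
  have h1 : wordG [(7, FD.phi (c 6)), (6, FD.phi (c 7 ^ 3)), (10, FD.phi (c 8 ^ 3)),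
      (11, FD.phi (c 9 ^ 3)), (8, FD.phi (c 10)), (9, FD.phi (c 11))] =
      xg 7 (FD.phi (c 6)) * xg 6 (FD.phi (c 7 ^ 3)) *
        (xg 10 (FD.phi (c 8 ^ 3)) * xg 11 (FD.phi (c 9 ^ 3)) * xg 8 (FD.phi (c 10)) *
          xg 9 (FD.phi (c 11))) := by
    simp [wordG, mul_assoc]
  rw [h1, U2_perm, I1 FD.h3, mul_assoc _ (U2 _ _ _ _), U2_mul FD.h3]
  simp [twc]

end FieldData

section

variable [CharP K 3] {e : ℕ} (FD : FieldData K e)
include FD

/-- the σ-invariant elements of `U` are the Ree elements -/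
theorem mem_U1 (g : GL chevG2.Idx K) (hU : g ∈ chevG2.posUnipotent K) (hG : g ∈ twistedG2 K e) :
    ∃ t u v : K, g = wordG (reeWordU e t u v) := by
  obtain ⟨c, hc⟩ := exists_ordWord g hU
  have hg : g = wordG (ordWord c 6 6) := Units.ext (by rw [hc, wordG_val])
  have hS : SigP FD.phi g := twisted_le_sigInv FD hG
  obtain ⟨_, _, h3⟩ := hS
  have hlt := ordWord_lt c
  have hlt' := twistWord_lt FD.phi _ hlt
  -- the blocks of `g` and of its twist agree
  have E1 : B11 (chevG2.wordMat K (ordWord c 6 6)) =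
      B11 (chevG2.wordMat K (ordWord (FD.twc c) 6 6)) := by
    rw [← wordG_val (ordWord (FD.twc c) 6 6), ← FD.twist_ordWord, wordG_val,
      ← twist_lemma FD.phi _ hlt, ← hc]
    exact h3
  have E2 : B22 (chevG2.wordMat K (ordWord c 6 6)) =
      B22 (chevG2.wordMat K (ordWord (FD.twc c) 6 6)) := by
    apply map_inj15 FD.phi
    rw [← wordG_val (ordWord (FD.twc c) 6 6), ← FD.twist_ordWord, wordG_val,
      twist_lemma FD.phi _ hlt', FD.twist_twist _ hlt, ← hc]
    exact h3.symm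
  have hu := block_unique 6 6 le_rfl rfl c (FD.twc c) E1 E2
  have u6 : c 6 = FD.phi (c 7) ^ 3 := by
    have := hu 6 (by norm_num) (by norm_num)
    simpa [FieldData.twc] using this
  have u7 : c 7 = FD.phi (c 6) := by
    have := hu 7 (by norm_num) (by norm_num)
    simpa [FieldData.twc] using this
  have u8 : c 8 = -(FD.phi (c 6) * FD.phi (c 7) ^ 3) + FD.phi (c 10) := by
    have := hu 8 (by norm_num) (by norm_num)
    simpa [FieldData.twc] using this
  have u9 : c 9 = -(FD.phi (c 6) ^ 2 * FD.phi (c 7) ^ 3) + FD.phi (c 11) := by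
    have := hu 9 (by norm_num) (by norm_num)
    simpa [FieldData.twc] using this
  refine ⟨c 6, c 10 - (c 6 ^ e) ^ 3 * c 6, c 11 - (c 6 ^ e) ^ 3 * c 6 ^ 2, ?_⟩
  have q1 : FD.phi ((c 6 ^ e) ^ 3) = c 6 := FD.phi_pow3 (c 6)
  have k7 : c 7 = c 6 ^ e := u7
  have k8 : c 8 = (c 10 - (c 6 ^ e) ^ 3 * c 6) ^ e := by
    calc c 8 = -(FD.phi (c 6) * FD.phi (c 7) ^ 3) + FD.phi (c 10) := u8
      _ = -(FD.phi (c 6) * c 6) + FD.phi (c 10) := by rw [← u6]
      _ = FD.phi (c 10 - (c 6 ^ e) ^ 3 * c 6) := by rw [map_sub, map_mul, q1]; ring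
      _ = _ := rfl
  have k9 : c 9 = (c 11 - (c 6 ^ e) ^ 3 * c 6 ^ 2) ^ e := by
    calc c 9 = -(FD.phi (c 6) ^ 2 * FD.phi (c 7) ^ 3) + FD.phi (c 11) := u9
      _ = -(FD.phi (c 6) ^ 2 * c 6) + FD.phi (c 11) := by rw [← u6]
      _ = FD.phi (c 11 - (c 6 ^ e) ^ 3 * c 6 ^ 2) := by rw [map_sub, map_mul, q1, map_pow]; ring
      _ = _ := rfl
  obtain ⟨n6, n7, n8, n9, n10, n11⟩ :=
    FieldData.nfc_vals (e := e) (c 6) (c 10 - (c 6 ^ e) ^ 3 * c 6) (c 11 - (c 6 ^ e) ^ 3 * c 6 ^ 2)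
  rw [hg, FD.wordG_reeWordU_nf, wordG_ordWord, wordG_ordWord, n6, n7, n8, n9, n10, n11]
  have e10 : (c 6 ^ e) ^ 3 * c 6 + (c 10 - (c 6 ^ e) ^ 3 * c 6) = c 10 := by ring
  have e11 : (c 6 ^ e) ^ 3 * c 6 ^ 2 + (c 11 - (c 6 ^ e) ^ 3 * c 6 ^ 2) = c 11 := by ring
  rw [e10, e11]
  conv_lhs => rw [k8, k9, k7]

theorem wordG_reeWordU_inj (t u v t' u' v' : K)
    (h : wordG (reeWordU e t u v) = wordG (reeWordU e t' u' v')) : t = t' ∧ u = u' ∧ v = v' := by
  rw [FD.wordG_reeWordU_nf, FD.wordG_reeWordU_nf] at h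
  have hm : chevG2.wordMat K (ordWord (FieldData.nfc e t u v) 6 6) =
      chevG2.wordMat K (ordWord (FieldData.nfc e t' u' v') 6 6) := by
    rw [← wordG_val, ← wordG_val, h]
  have hu := block_unique 6 6 le_rfl rfl _ _ (congrArg B11 hm) (congrArg B22 hm)
  obtain ⟨n6, _, _, _, n10, n11⟩ := FieldData.nfc_vals (e := e) t u v
  obtain ⟨m6, _, _, _, m10, m11⟩ := FieldData.nfc_vals (e := e) t' u' v'
  have u6 := hu 6 (by norm_num) (by norm_num)
  have u10 := hu 10 (by norm_num) (by norm_num)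
  have u11 := hu 11 (by norm_num) (by norm_num)
  rw [n6, m6] at u6
  rw [n10, m10] at u10
  rw [n11, m11] at u11
  subst u6
  exact ⟨rfl, add_left_cancel u10, add_left_cancel u11⟩

end

end Cfsg.Agent.Helper15.Ree
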