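import Cfsg.Agent.Lib.Helper15.Ree.Torus4
import Cfsg.Agent.Lib.Helper15.Ree.Checks4
import Cfsg.Agent.Lib.Helper15.Ree.U1

/-!
# The action of the torus on the unipotent elements of `²G₂` (for S1151)
-/

set_option autoImplicit false
set_option linter.unusedSectionVars false
set_option maxRecDepth 100000

namespace Cfsg.Agent.Helper15.Ree

open Cfsg.Lie Cfsg.Agent.Helper18 Cfsg.Agent.Helper6

variable {K : Type*} [Field K]

theorem Ha_conj (p : Kˣ) (r : ℕ) (hr : r < 12) (s : K) :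
    Ha p * xg r s = xg r (((p ^ (e7t.getD r 0) : Kˣ) : K) * s) * Ha p := by
  by_cases hs : s = 0
  · subst hs; simp [xg_zero]
  have hc := (List.all_eq_true.mp chk_h7) r (List.mem_range.mpr hr)
  have h := wordG_eq_of_check p (Units.mk0 s hs) _ _ hc
  rw [evalWord_append, evalWord_append, wordG_append, wordG_append, eval_hWa] at h
  have e1 : wordG (evalWord p (Units.mk0 s hs) [(r, vb)]) = xg r s := by
    simp [evalWord, vb, LP.eval, LP.evalMono, wordG]
  have e2 : wordG (evalWord p (Units.mk0 s hs) [(r, [(1, e7t.getD r 0, 1)])]) =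
      xg r (((p ^ (e7t.getD r 0) : Kˣ) : K) * s) := by
    simp [evalWord, LP.eval, LP.evalMono, wordG]
  rw [e1, e2] at h
  exact h

theorem Hb_conj (q : Kˣ) (r : ℕ) (hr : r < 12) (s : K) :
    Hb q * xg r s = xg r (((q ^ (e6t.getD r 0) : Kˣ) : K) * s) * Hb q := by
  by_cases hs : s = 0
  · subst hs; simp [xg_zero]
  have hc := (List.all_eq_true.mp chk_h6) r (List.mem_range.mpr hr)
  have h := wordG_eq_of_check q (Units.mk0 s hs) _ _ hc
  rw [evalWord_append, evalWord_append, wordG_append, wordG_append, eval_hWa] at h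
  have e1 : wordG (evalWord q (Units.mk0 s hs) [(r, vb)]) = xg r s := by
    simp [evalWord, vb, LP.eval, LP.evalMono, wordG]
  have e2 : wordG (evalWord q (Units.mk0 s hs) [(r, [(1, e6t.getD r 0, 1)])]) =
      xg r (((q ^ (e6t.getD r 0) : Kˣ) : K) * s) := by
    simp [evalWord, LP.eval, LP.evalMono, wordG]
  rw [e1, e2] at h
  exact h

/-- the character values of `Tt p q` on the positive roots -/
noncomputable def chiT (p q : Kˣ) : ℕ → K
  | 6 => ((p : K)⁻¹) ^ 3 * (q : K) ^ 2
  | 7 => (p : K) ^ 2 * (q : K)⁻¹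
  | 8 => (p : K)⁻¹ * (q : K)
  | 9 => (p : K)
  | 10 => (p : K) ^ 3 * (q : K)⁻¹
  | 11 => (q : K)
  | _ => 1

theorem Tt_mul_xg (p q : Kˣ) (r : ℕ) (h6 : 6 ≤ r) (hr : r < 12) (s : K) :
    Tt p q * xg r s = xg r (chiT p q r * s) * Tt p q := by
  unfold Tt
  rw [mul_assoc, Hb_conj q r hr, ← mul_assoc, Ha_conj p r hr, mul_assoc]
  congr 2
  have hp := p.ne_zero
  have hq := q.ne_zero
  interval_cases r <;> simp [e7t, e6t, chiT, zpow_neg] <;> field_simp

theorem Tt_conj_xg (p q : Kˣ) (r : ℕ) (h6 : 6 ≤ r) (hr : r < 12) (s : K) :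
    MulAut.conj (Tt p q) (xg r s) = xg r (chiT p q r * s) := by
  rw [MulAut.conj_apply, Tt_mul_xg p q r h6 hr, mul_assoc, mul_inv_cancel, mul_one]

theorem chiT_8 (p q : Kˣ) : chiT p q 8 = chiT p q 6 * chiT p q 7 := by
  have hp := p.ne_zero
  have hq := q.ne_zero
  simp only [chiT]
  field_simp

theorem chiT_9 (p q : Kˣ) : chiT p q 9 = chiT p q 6 * chiT p q 7 ^ 2 := by
  have hp := p.ne_zero
  have hq := q.ne_zero
  simp only [chiT]
  field_simp

theorem conj_Ap_T (p q : Kˣ) (t T u U v V : K) :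
    MulAut.conj (Tt p q) (Ap t T u U v V) =
      Ap (chiT p q 6 * t) (chiT p q 7 * T) (chiT p q 10 * u) (chiT p q 8 * U) (chiT p q 11 * v)
        (chiT p q 9 * V) := by
  unfold Ap
  simp only [map_mul]
  rw [Tt_conj_xg p q 7 (by norm_num) (by norm_num), Tt_conj_xg p q 6 (by norm_num) (by norm_num),
    Tt_conj_xg p q 8 (by norm_num) (by norm_num), Tt_conj_xg p q 9 (by norm_num) (by norm_num),
    Tt_conj_xg p q 10 (by norm_num) (by norm_num), Tt_conj_xg p q 11 (by norm_num) (by norm_num)]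
  have e8' : chiT p q 8 * (t * T + U) = chiT p q 6 * t * (chiT p q 7 * T) + chiT p q 8 * U := by
    rw [chiT_8]; ring
  have e9' : chiT p q 9 * (t * T ^ 2 + V) =
      chiT p q 6 * t * (chiT p q 7 * T) ^ 2 + chiT p q 9 * V := by
    rw [chiT_9]; ring
  rw [e8', e9']

/-- the ordered form of `Ap` -/
def apc (t T u U v V : K) : ℕ → K := fun r =>
  if r = 6 then t else if r = 7 then T else if r = 8 then U else if r = 9 then V
  else if r = 10 then T ^ 3 * t + u else if r = 11 then T ^ 3 * t ^ 2 + v else 0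

theorem Ap_nf (h3 : (3 : K) = 0) (t T u U v V : K) :
    Ap t T u U v V = wordG (ordWord (apc t T u U v V) 6 6) := by
  rw [Ap_eq_U2, I1 h3, mul_assoc _ (U2 _ _ _ _), U2_mul h3, wordG_ordWord]
  simp only [apc]
  norm_num
  congr 1 <;> ring

theorem Ap_inj [CharP K 3] (h3 : (3 : K) = 0) (t T u U v V t' T' u' U' v' V' : K)
    (h : Ap t T u U v V = Ap t' T' u' U' v' V') : t = t' ∧ u = u' ∧ v = v' := by
  rw [Ap_nf h3, Ap_nf h3] at h
  have hm : chevG2.wordMat K (ordWord (apc t T u U v V) 6 6) =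
      chevG2.wordMat K (ordWord (apc t' T' u' U' v' V') 6 6) := by
    rw [← wordG_val, ← wordG_val, h]
  have hu := block_unique 6 6 le_rfl rfl _ _ (congrArg B11 hm) (congrArg B22 hm)
  have u6 := hu 6 (by norm_num) (by norm_num)
  have u7 := hu 7 (by norm_num) (by norm_num)
  have u10 := hu 10 (by norm_num) (by norm_num)
  have u11 := hu 11 (by norm_num) (by norm_num)
  simp only [apc] at u6 u7 u10 u11
  norm_num at u6 u7 u10 u11
  subst u6 u7
  exact ⟨rfl, by simpa using u10, by simpa using u11⟩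

end Cfsg.Agent.Helper15.Ree
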