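import Cfsg.Agent.Lib.Helper15.Ree.U1

/-!
# `U¹ = G¹ ∩ U` in `²G₂(3^(2m+1))` (S1101): the statement
-/

set_option autoImplicit false

namespace Cfsg.Agent.Helper15.Ree

open Cfsg.Lie

variable {K : Type*} [Field K]

theorem twistedG2_U1 [Fintype K] {m : ℕ} (hK : Fintype.card K = 3 ^ (2 * m + 1)) :
    (∀ g : GL chevG2.Idx K, g ∈ chevG2.posUnipotent K ⊓ twistedG2 K (3 ^ m) ↔
      ∃ t u v : K, (g : Matrix chevG2.Idx chevG2.Idx K) =
        chevG2.wordMat K (reeWordU (3 ^ m) t u v)) ∧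
    Nat.card ↥(chevG2.posUnipotent K ⊓ twistedG2 K (3 ^ m)) = (3 ^ (2 * m + 1)) ^ 3 := by
  haveI : Fact (Nat.Prime 3) := ⟨by norm_num⟩
  haveI : CharP K 3 := charP_of_card_eq_prime_pow hK
  have FD := fieldData_of_card hK
  have hiff : ∀ g : GL chevG2.Idx K, g ∈ chevG2.posUnipotent K ⊓ twistedG2 K (3 ^ m) ↔
      ∃ t u v : K, (g : Matrix chevG2.Idx chevG2.Idx K) =
        chevG2.wordMat K (reeWordU (3 ^ m) t u v) := by
    intro g
    constructor
    · rintro ⟨hU, hG⟩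
      obtain ⟨t, u, v, h⟩ := mem_U1 FD g hU hG
      exact ⟨t, u, v, by rw [h, wordG_val]⟩
    · rintro ⟨t, u, v, h⟩
      have hg : g = wordG (reeWordU (3 ^ m) t u v) := Units.ext (by rw [h, wordG_val])
      rw [hg]
      exact ⟨wordG_mem_pos _ (reeWordU_pos _ t u v), FieldData.wordU_mem t u v⟩
  refine ⟨hiff, ?_⟩
  let φ : K × K × K → ↥(chevG2.posUnipotent K ⊓ twistedG2 K (3 ^ m)) := fun p =>
    ⟨wordG (reeWordU (3 ^ m) p.1 p.2.1 p.2.2),
      (hiff _).mpr ⟨p.1, p.2.1, p.2.2, wordG_val _⟩⟩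
  have hφ : Function.Bijective φ := by
    constructor
    · rintro ⟨t, u, v⟩ ⟨t', u', v'⟩ h
      have h' : wordG (reeWordU (3 ^ m) t u v) = wordG (reeWordU (3 ^ m) t' u' v') :=
        congrArg Subtype.val h
      obtain ⟨rfl, rfl, rfl⟩ := wordG_reeWordU_inj FD _ _ _ _ _ _ h'
      rfl
    · rintro ⟨g, hg⟩
      obtain ⟨t, u, v, h⟩ := (hiff g).mp hg
      refine ⟨(t, u, v), ?_⟩
      apply Subtype.ext
      exact Units.ext (by rw [h]; exact wordG_val _)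
  rw [← Nat.card_congr (Equiv.ofBijective φ hφ), Nat.card_prod, Nat.card_prod,
    Nat.card_eq_fintype_card, hK]
  ring

end Cfsg.Agent.Helper15.Ree
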