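import Cfsg.Agent.Lib.Helper15.Ree.SigmaGen
import Cfsg.Agent.Lib.Helper18.UProdSmall

/-!
# The ordered product form in `U` for type `G₂` and its uniqueness on the diagonal blocks (for S1101)
-/

set_option autoImplicit false
set_option linter.unusedSectionVars false
set_option maxRecDepth 100000

namespace Cfsg.Agent.Helper15.Ree

open Cfsg.Lie Cfsg.Agent.Helper18 Cfsg.Agent.Helper6 Cfsg.Agent.Helper6.BlockHom Cfsg.Agent.S1043

variable {K : Type*} [Field K]

theorem goodG2' : Good chevG2 := by simp [Good]

/-! ### The commutator formula -/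

theorem commTerms_pos : ∀ r < 12, ∀ s < 12, ∀ c ∈ chevG2.commTerms r s, 1 ≤ c.2.2.1 ∧ 1 ≤ c.2.2.2 := by
  decide +kernel

theorem wordMat_zero15 (w : List (ℕ × K)) (hw : ∀ p ∈ w, p.2 = 0) : chevG2.wordMat K w = 1 := by
  induction w with
  | nil => exact wordMat_nil15
  | cons p w ih =>
    rw [wordMat_cons15, hw p List.mem_cons_self, x_zero, one_mul,
      ih fun q hq => hw q (List.mem_cons_of_mem _ hq)]

theorem commOK15 : ∀ r < chevG2.nroots, ∀ s < chevG2.nroots, s ≠ r → s ≠ chevG2.neg r →
    CommOK K chevG2 r s := by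
  intro r hr s hs hsr hsn t u
  have hr' : r < 12 := hr
  have hs' : s < 12 := hs
  by_cases ht : t = 0
  · subst ht
    rw [x_zero, mul_one, one_mul, wordMat_zero15, mul_one]
    intro p hp
    simp only [ChevalleyDatum.commWord, List.mem_map] at hp
    obtain ⟨c, hc, rfl⟩ := hp
    have := (commTerms_pos r hr' s hs' c hc).1
    simp only
    rw [neg_zero, zero_pow (by omega), mul_zero, zero_mul]
  by_cases hu : u = 0
  · subst hu
    rw [x_zero, mul_one, one_mul, wordMat_zero15, mul_one]
    intro p hp
    simp only [ChevalleyDatum.commWord, List.mem_map] at hp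
    obtain ⟨c, hc, rfl⟩ := hp
    have := (commTerms_pos r hr' s hs' c hc).2
    simp only
    rw [zero_pow (by omega), mul_zero]
  have hall := chk_commAll
  rw [List.all_eq_true] at hall
  have h1 := hall r (List.mem_range.mpr hr')
  rw [List.all_eq_true] at h1
  have h2 := h1 s (List.mem_range.mpr hs')
  have hrs : (r == s) = false := by
    rw [beq_eq_false_iff_ne]; exact fun h => hsr h.symm
  have hsn' : (s == chevG2.neg r) = false := by
    rw [beq_eq_false_iff_ne]; exact hsn
  rw [hrs, hsn', Bool.false_or, Bool.false_or] at h2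
  have h := wordMat_eq_of_check chevG2 (Units.mk0 t ht) (Units.mk0 u hu) _ _ h2
  have e1 : chevG2.wordMat K (evalWord (Units.mk0 t ht) (Units.mk0 u hu) [(s, vb), (r, va)]) =
      chevG2.x K s u * chevG2.x K r t := by
    simp [evalWord, va, vb, LP.eval, LP.evalMono, ChevalleyDatum.wordMat]
  have e2 : chevG2.wordMat K (evalWord (Units.mk0 t ht) (Units.mk0 u hu)
      ([(r, va), (s, vb)] ++ commLP r s)) =
      chevG2.x K r t * chevG2.x K s u * chevG2.wordMat K (chevG2.commWord K r s t u) := by
    have e3 : evalWord (Units.mk0 t ht) (Units.mk0 u hu) (commLP r s) = chevG2.commWord K r s t u := by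
      simp only [evalWord, commLP, ChevalleyDatum.commWord, List.map_map]
      apply List.map_congr_left
      intro c _
      simp only [Function.comp_apply, LP.eval, LP.evalMono, List.map_cons, List.map_nil,
        List.sum_cons, List.sum_nil, add_zero, Prod.mk.injEq, true_and]
      push_cast
      rw [zpow_natCast, zpow_natCast, neg_pow t]
      simp only [Units.val_mk0]
      ring
    rw [evalWord_append, ← e3]
    simp [evalWord, va, vb, LP.eval, LP.evalMono, ChevalleyDatum.wordMat, mul_assoc]
  rw [e1, e2] at h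
  exact h

/-! ### The table facts for the ordered product -/

theorem posOfRange15 : ∀ s < chevG2.nroots, chevG2.nroots / 2 ≤ s → chevG2.IsPosRoot s := by
  decide +kernel

theorem posRange15 : ∀ s, chevG2.IsPosRoot s → 6 ≤ s ∧ s < 12 := by
  intro s hs
  have h1 : s < 12 := hs.1
  have : ∀ s < 12, chevG2.IsPosRoot s → 6 ≤ s := by decide +kernel
  exact ⟨this s h1 hs, h1⟩

theorem wtAll15 (s : ℕ) (h1 : 6 ≤ s) (h2 : s < 12) : wtCheck chevG2 fwG2 s = true := by
  have h := wtChkG2_6
  rw [wtRangeCheck, List.all_eq_true] at h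
  exact h s (by rw [List.mem_range'_1]; omega)

theorem posRoots_eq15 :
    chevG2.posRoots = List.range' (chevG2.nroots / 2) (chevG2.nroots - chevG2.nroots / 2) := by
  decide +kernel

theorem uProdData15 : UProdData chevG2 fwG2 := by
  refine uProdData_of_checks chevG2 fwG2 (fun s h1 h2 => wtAll15 s h1 h2) arithChkG2
    (fun k h1 h2 => ordChkG2_from6 k h1 h2) ?_ posRoots_eq15
  intro s
  constructor
  · intro hs
    exact posRange15 s hs
  · rintro ⟨h1, h2⟩
    exact posOfRange15 s h2 h1

/-- every element of `U` is an ordered product of root elements -/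
theorem exists_ordWord (g : GL chevG2.Idx K) (hg : g ∈ chevG2.posUnipotent K) :
    ∃ c : ℕ → K, (g : Matrix chevG2.Idx chevG2.Idx K) = chevG2.wordMat K (ordWord c 6 6) := by
  rw [posUnipotent_eq_Uge chevG2 uProdData15] at hg
  exact Uge_exists chevG2 goodG2' uProdData15 commOK15 6 6 (by decide) (by decide) g hg

end Cfsg.Agent.Helper15.Ree
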